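import Mathlib
import Cfsg.Agent.Lib.Tech.SylowIn

/-! Homogeneous finite groups (S3923): definitions and the basic extension lemmas. -/

set_option autoImplicit false

namespace CfsgLib.Hom
open Subgroup CfsgLib.Tech
open _root_.Classical

variable {G : Type*} [Group G]

/-- every isomorphism between subgroups extends to an automorphism -/
def Hg (G : Type*) [Group G] : Prop :=
  ∀ (A B : Subgroup G) (e : ↥A ≃* ↥B), ∃ φ : G ≃* G, ∀ a : ↥A, φ (a : G) = (e a : G)

/-- the part of homogeneity that concerns elements of odd order -/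
structure HgO (G : Type*) [Group G] : Prop where
  one : ∀ x y : G, Odd (orderOf x) → orderOf x = orderOf y → ∃ φ : G ≃* G, φ x = y
  two : ∀ p : ℕ, p.Prime → Odd p → ∀ a b b' : G, a ^ p = 1 → b ^ p = 1 → b' ^ p = 1 →
    a * b = b * a → a * b' = b' * a → b ∉ zpowers a → b' ∉ zpowers a →
    ∃ φ : G ≃* G, φ a = a ∧ φ b = b'

/-- `W` is a subgroup of index two of `Y` -/
structure Hy (W Y : Subgroup G) : Prop where
  le : W ≤ Y
  ex : ∃ x ∈ Y, x ∉ W
  mul : ∀ x ∈ Y, ∀ y ∈ Y, x ∉ W → y ∉ W → x * y ∈ W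

/-- `φ` fixes `W` pointwise and multiplies the elements of `Y` outside `W` by `c` -/
structure Tv (φ : G → G) (Y W : Subgroup G) (c : G) : Prop where
  fix : ∀ x ∈ W, φ x = x
  mv : ∀ x ∈ Y, x ∉ W → φ x = x * c

/-- elementary abelian 2-subgroup -/
def El (E : Subgroup G) : Prop := ∀ x ∈ E, x * x = 1

/-- elementary abelian 2-subgroup of largest order -/
structure Mx (E : Subgroup G) : Prop where
  el : El E
  max : ∀ F : Subgroup G, El F → Nat.card F ≤ Nat.card E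

/-- every transvection of `E` is induced by an element of `G` -/
def AllTv (E : Subgroup G) : Prop :=
  ∀ W : Subgroup G, Hy W E → ∀ c ∈ W, ∃ g : G, Tv (fun x => g * x * g⁻¹) E W c

/-- every 2-element centralizing `E` lies in `E` -/
def Sy (E : Subgroup G) : Prop :=
  ∀ (x : G) (k : ℕ), x ^ 2 ^ k = 1 → (∀ e ∈ E, x * e = e * x) → x ∈ E

/-- `A` is homocyclic of exponent `2 ^ (j + 1)` with `Ω₁(A) = H`, inverted by `e`, and the normalizer
of `A⟨e⟩` induces all transvections of `H` -/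
structure Dih (H : Subgroup G) (e : G) (A : Subgroup G) (j : ℕ) : Prop where
  le : H ≤ A
  inv : ∀ a ∈ A, e * a * e⁻¹ = a⁻¹
  sq : ∀ a ∈ A, a * a = 1 → a ∈ H
  pw : ∀ a ∈ A, a ^ 2 ^ j ∈ H
  onto : ∀ h ∈ H, ∃ a ∈ A, a ^ 2 ^ j = h
  ker : ∀ a ∈ A, a ^ 2 ^ j = 1 → ∃ b ∈ A, a = b * b
  big : ∀ W : Subgroup G, Hy W H → ∀ c ∈ W, ∃ g : G, Tv (fun x => g * x * g⁻¹) H W c ∧
    g ∈ normalizer (A : Set G) ∧ e⁻¹ * (g * e * g⁻¹) ∈ A

/-! ### elementary groups, index two -/

theorem El.comm {E : Subgroup G} (h : El E) {x y : G} (hx : x ∈ E) (hy : y ∈ E) : x * y = y * x := by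
  have h1 := h _ (E.mul_mem hx hy)
  calc x * y = x * y * (y * x * (y * x)) := by rw [h _ (E.mul_mem hy hx), mul_one]
    _ = x * (y * y) * x * (y * x) := by group
    _ = y * x := by rw [h y hy, mul_one, h x hx, one_mul]

theorem El.inv {E : Subgroup G} (h : El E) {x : G} (hx : x ∈ E) : x⁻¹ = x :=
  inv_eq_of_mul_eq_one_right (h x hx)

theorem El.mono {E F : Subgroup G} (h : El E) (hF : F ≤ E) : El F := fun x hx => h x (hF hx)

theorem El.isPGroup {E : Subgroup G} (h : El E) : IsPGroup 2 E :=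
  isPGroup_iff_mem.2 fun x hx => ⟨1, by rw [pow_one, pow_two]; exact h x hx⟩

theorem Hy.mul_notMem {W Y : Subgroup G} (_h : Hy W Y) {x w : G} (hx : x ∉ W) (hw : w ∈ W) :
    x * w ∉ W := fun h' => hx (by simpa using W.mul_mem h' (W.inv_mem hw))

theorem Hy.mul_notMem' {W Y : Subgroup G} (_h : Hy W Y) {x w : G} (hx : x ∉ W) (hw : w ∈ W) :
    w * x ∉ W := fun h' => hx (by simpa using W.mul_mem (W.inv_mem hw) h')

theorem Hy.sq {W Y : Subgroup G} (h : Hy W Y) {x : G} (hx : x ∈ Y) : x * x ∈ W := by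
  by_cases hw : x ∈ W
  · exact W.mul_mem hw hw
  · exact h.mul x hx x hx hw hw

theorem Hy.conj {W Y : Subgroup G} (h : Hy W Y) {x w : G} (hx : x ∈ Y) (hw : w ∈ W) :
    x * w * x⁻¹ ∈ W := by
  by_cases hx' : x ∈ W
  · exact W.mul_mem (W.mul_mem hx' hw) (W.inv_mem hx')
  · exact h.mul _ (Y.mul_mem hx (h.le hw)) _ (Y.inv_mem hx) (h.mul_notMem hx' hw)
      (fun h' => hx' (by simpa using W.inv_mem h'))

theorem Hy.inv_mul {W Y : Subgroup G} (h : Hy W Y) {x y : G} (hx : x ∈ Y) (hy : y ∈ Y)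
    (hx' : x ∉ W) (hy' : y ∉ W) : x⁻¹ * y ∈ W :=
  h.mul _ (Y.inv_mem hx) _ hy (fun h' => hx' (by simpa using W.inv_mem h')) hy'

/-- membership in `W⟨x⟩` when `x` normalizes `W` and `x² ∈ W` -/
theorem mem_sup_zpowers {W : Subgroup G} {x : G} (hn : ∀ w ∈ W, x * w * x⁻¹ ∈ W) (hs : x * x ∈ W)
    {y : G} : y ∈ W ⊔ zpowers x ↔ y ∈ W ∨ x⁻¹ * y ∈ W := by
  have hn' : ∀ w ∈ W, x⁻¹ * w * x ∈ W := fun w hw => by
    have := W.mul_mem (W.mul_mem (W.inv_mem hs) (hn w hw)) hs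
    convert this using 1; group
  let K : Subgroup G :=
    { carrier := {y | y ∈ W ∨ x⁻¹ * y ∈ W}
      one_mem' := Or.inl W.one_mem
      mul_mem' := by
        rintro a b (ha | ha) (hb | hb)
        · exact Or.inl (W.mul_mem ha hb)
        · right
          have := W.mul_mem (hn' a ha) hb
          convert this using 1; group
        · right
          have := W.mul_mem ha hb
          convert this using 1; group
        · left
          have := W.mul_mem (W.mul_mem hs (hn' _ ha)) hb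
          convert this using 1; group
      inv_mem' := by
        rintro a (ha | ha)
        · exact Or.inl (W.inv_mem ha)
        · right
          have := W.mul_mem (hn' _ (W.inv_mem ha)) (W.inv_mem hs)
          convert this using 1; group }
  constructor
  · intro hy
    have : W ⊔ zpowers x ≤ K := sup_le (fun w hw => Or.inl hw)
      (zpowers_le.2 (Or.inr (by simp)))
    exact this hy
  · rintro (hy | hy)
    · exact mem_sup_left hy
    · have := mul_mem (mem_sup_right (mem_zpowers x) : x ∈ W ⊔ zpowers x) (mem_sup_left hy)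
      simpa using this

theorem hy_sup_zpowers {W : Subgroup G} {x : G} (hn : ∀ w ∈ W, x * w * x⁻¹ ∈ W) (hs : x * x ∈ W)
    (hx : x ∉ W) : Hy W (W ⊔ zpowers x) := by
  refine ⟨le_sup_left, ⟨x, mem_sup_right (mem_zpowers x), hx⟩, fun a ha b hb ha' hb' => ?_⟩
  have h1 := ((mem_sup_zpowers hn hs).1 ha).resolve_left ha'
  have h2 := ((mem_sup_zpowers hn hs).1 hb).resolve_left hb'
  have := W.mul_mem (W.mul_mem (hn _ h1) hs) h2
  convert this using 1; group

theorem Hy.eq_sup {W Y : Subgroup G} (h : Hy W Y) {x : G} (hx : x ∈ Y) (hx' : x ∉ W) :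
    Y = W ⊔ zpowers x := by
  refine le_antisymm (fun y hy => ?_) (sup_le h.le (zpowers_le.2 hx))
  rw [mem_sup_zpowers (fun w hw => h.conj hx hw) (h.sq hx)]
  by_cases hw : y ∈ W
  · exact Or.inl hw
  · exact Or.inr (h.inv_mul hx hy hx' hw)

theorem Hy.card {W Y : Subgroup G} (h : Hy W Y) : Nat.card Y = 2 * Nat.card W := by
  obtain ⟨x, hx, hx'⟩ := h.ex
  have : W.relIndex Y = 2 := by
    rw [relIndex, index_eq_two_iff]
    refine ⟨⟨x, hx⟩, fun b => ?_⟩
    by_cases hb : (b : G) ∈ W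
    · refine Or.inr ⟨by simpa [mem_subgroupOf] using hb, ?_⟩
      simpa [mem_subgroupOf] using h.mul_notMem' hx' hb
    · refine Or.inl ⟨by simpa [mem_subgroupOf] using h.mul _ b.2 _ hx hb hx', ?_⟩
      simpa [mem_subgroupOf] using hb
  rw [← card_mul_relIndex' h.le, this, mul_comm]

/-- a subgroup of index two containing `K` and avoiding `x`, when `K` contains all squares -/
theorem exists_hy [Finite G] {K Y : Subgroup G} (hK : K ≤ Y) (hs : ∀ y ∈ Y, y * y ∈ K) {x : G}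
    (hx : x ∈ Y) (hx' : x ∉ K) : ∃ W, Hy W Y ∧ K ≤ W ∧ x ∉ W := by
  obtain ⟨W, ⟨h1, h2, h3⟩, hmax⟩ := Set.Finite.exists_maximal (Set.toFinite
    {W : Subgroup G | K ≤ W ∧ W ≤ Y ∧ x ∉ W}) ⟨K, le_rfl, hK, hx'⟩
  have hn : ∀ y ∈ Y, ∀ w ∈ W, y * w * y⁻¹ ∈ W := fun y hy w hw => by
    have := W.mul_mem (W.mul_mem (h1 (hs _ (Y.mul_mem hy (h2 hw)))) (W.inv_mem hw))
      (W.inv_mem (h1 (hs y hy)))
    convert this using 1; group
  have key : ∀ y ∈ Y, y ∉ W → y⁻¹ * x ∈ W := fun y hy hy' => by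
    by_contra hc
    have hm : x ∉ W ⊔ zpowers y := by
      rw [mem_sup_zpowers (hn y hy) (h1 (hs y hy))]
      rintro (h | h)
      exacts [h3 h, hc h]
    have := hmax (y := W ⊔ zpowers y) ⟨h1.trans le_sup_left, sup_le h2 (zpowers_le.2 hy), hm⟩
      le_sup_left
    exact hy' (this (mem_sup_right (mem_zpowers y)))
  refine ⟨W, ⟨h2, ⟨x, hx, h3⟩, fun a ha b hb ha' hb' => ?_⟩, h1, h3⟩
  have := W.mul_mem (W.mul_mem (h1 (hs a ha)) (key a ha ha')) (W.inv_mem (key b hb hb'))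
  convert this using 1; group

/-- a subgroup of index two of an elementary group containing `K` and avoiding `x` -/
theorem El.exists_hy [Finite G] {K E : Subgroup G} (h : El E) (hK : K ≤ E) {x : G}
    (hx : x ∈ E) (hx' : x ∉ K) : ∃ W, Hy W E ∧ K ≤ W ∧ x ∉ W :=
  Hom.exists_hy hK (fun y hy => by rw [h y hy]; exact K.one_mem) hx hx'

theorem notMem_zpowers_of_sq {h x : G} (hh : h * h = 1) (h1 : x ≠ 1) (h2 : x ≠ h) :
    x ∉ zpowers h := by
  intro hx
  have := (mem_sup_zpowers (W := ⊥) (x := h) (by simp) (by simp [hh])).1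
    (show x ∈ ⊥ ⊔ zpowers h by simpa using hx)
  rcases this with h' | h'
  · exact h1 (by simpa using h')
  · exact h2 (by rw [mem_bot, inv_mul_eq_one] at h'; exact h'.symm)

/-- a hyperplane through `h` avoiding `x ∉ {1, h}` -/
theorem El.exists_hy' [Finite G] {E : Subgroup G} (hE : El E) {h x : G} (hh : h ∈ E) (hx : x ∈ E)
    (h1 : x ≠ 1) (h2 : x ≠ h) : ∃ W, Hy W E ∧ h ∈ W ∧ x ∉ W := by
  obtain ⟨W, a, b, c⟩ := hE.exists_hy (zpowers_le.2 hh) hx (notMem_zpowers_of_sq (hE h hh) h1 h2)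
  exact ⟨W, a, b (mem_zpowers h), c⟩

/-- a proper subgroup of a 2-group lies in a subgroup of index two -/
theorem exists_hy_of_lt [Finite G] {K Y : Subgroup G} (hY : IsPGroup 2 Y) (hK : K < Y) :
    ∃ W, Hy W Y ∧ K ≤ W := by
  obtain ⟨W, ⟨h1, h2⟩, hmax⟩ := Set.Finite.exists_maximal (Set.toFinite
    {W : Subgroup G | K ≤ W ∧ W < Y}) ⟨K, le_rfl, hK⟩
  obtain ⟨x, hx, hx', hn⟩ := exists_mem_normalizer_of_lt hY h2
  obtain ⟨k, hk⟩ := isPGroup_iff_mem.1 hY x hx
  have hex : ∃ i, x ^ 2 ^ i ∈ W := ⟨k, by rw [hk]; exact W.one_mem⟩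
  obtain ⟨i, hi⟩ : ∃ i, Nat.find hex = i + 1 := Nat.exists_eq_succ_of_ne_zero fun h0 => by
    have := Nat.find_spec hex
    rw [h0] at this
    exact hx' (by simpa using this)
  have hy' : x ^ 2 ^ i ∉ W := Nat.find_min hex (by omega)
  have hs : x ^ 2 ^ i * x ^ 2 ^ i ∈ W := by
    have := Nat.find_spec hex
    rwa [hi, pow_succ, pow_mul, pow_two] at this
  have hn' : ∀ w ∈ W, x ^ 2 ^ i * w * (x ^ 2 ^ i)⁻¹ ∈ W := fun w hw =>
    conj_mem_of_mem_normalizer (pow_mem hn _) hw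
  have hle : W ⊔ zpowers (x ^ 2 ^ i) ≤ Y := sup_le h2.le (zpowers_le.2 (pow_mem hx _))
  rcases hle.eq_or_lt with e | e
  · exact ⟨W, e ▸ hy_sup_zpowers hn' hs hy', h1⟩
  · exact absurd (hmax (y := W ⊔ zpowers (x ^ 2 ^ i)) ⟨h1.trans le_sup_left, e⟩ le_sup_left
      (mem_sup_right (mem_zpowers _))) hy'

/-- an element outside three given ones in a group with at least four elements -/
theorem exists_ne_three [Finite G] {E : Subgroup G} (h : 4 ≤ Nat.card E) (a b c : G) :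
    ∃ x ∈ E, x ≠ a ∧ x ≠ b ∧ x ≠ c := by
  by_contra hc
  push Not at hc
  have : (E : Set G) ⊆ ({a, b, c} : Finset G) := fun x hx => by
    by_cases h1 : x = a
    · simp [h1]
    by_cases h2 : x = b
    · simp [h2]
    simp [hc x hx h1 h2]
  have h1 := Set.ncard_le_ncard this (Finset.finite_toSet _)
  rw [Set.ncard_coe_finset] at h1
  have h2 : ({a, b, c} : Finset G).card ≤ 3 := Finset.card_le_three
  have h3 : (E : Set G).ncard = Nat.card E := rfl
  omega

theorem Tv.mem {φ : G → G} {Y W : Subgroup G} {c : G} (h : Tv φ Y W c) (hW : Hy W Y) (hc : c ∈ W)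
    {x : G} (hx : x ∈ Y) : φ x ∈ Y := by
  by_cases hw : x ∈ W
  · rw [h.fix x hw]; exact hx
  · rw [h.mv x hx hw]; exact Y.mul_mem hx (hW.le hc)

theorem Tv.mem_normalizer [Finite G] {g : G} {Y W : Subgroup G} {c : G}
    (h : Tv (fun x => g * x * g⁻¹) Y W c) (hW : Hy W Y) (hc : c ∈ W) :
    g ∈ normalizer (Y : Set G) := mem_normalizer_of_forall fun _ hx => h.mem hW hc hx

/-! ### `p`-parts -/

theorem exists_ppart [Finite G] (p : ℕ) [hp : Fact p.Prime] (g : G) :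
    ∃ k j : ℕ, ¬ p ∣ k ∧ (g ^ k) ^ p ^ j = 1 := by
  obtain ⟨j, k, hk, e⟩ := Nat.exists_eq_pow_mul_and_not_dvd (orderOf_pos g).ne' p hp.out.ne_one
  exact ⟨k, j, hk, by rw [← pow_mul, mul_comm, ← e, pow_orderOf_eq_one]⟩

/-- a homomorphism into a commutative `p`-group has the same image on a Sylow subgroup -/
theorem syl_image [Finite G] {p : ℕ} [hp : Fact p.Prime] {P N : Subgroup G} (hP : IsSylowIn p P N)
    (β : G → G) (hβ : ∀ x ∈ N, ∀ y ∈ N, β (x * y) = β x * β y)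
    (hc : ∀ x ∈ N, ∀ y ∈ N, β x * β y = β y * β x) (hq : ∀ x ∈ N, ∃ j, β x ^ p ^ j = 1)
    {n : G} (hn : n ∈ N) : ∃ t ∈ P, β t = β n := by
  have h1 : β 1 = 1 := by simpa using hβ 1 N.one_mem 1 N.one_mem
  have hpow : ∀ x ∈ N, ∀ k : ℕ, β (x ^ k) = β x ^ k := fun x hx k => by
    induction k with
    | zero => simpa using h1
    | succ k ih => rw [pow_succ, hβ _ (pow_mem hx k) _ hx, ih, pow_succ]
  obtain ⟨k, j, hk, e⟩ := exists_ppart p n
  obtain ⟨m, hm, ht⟩ := hP.exists_conj_mem (pow_mem hn k) (isPGroup_zpowers_of_pow e)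
  have h2 : β (m * n ^ k * m⁻¹) = β n ^ k := by
    rw [hβ _ (N.mul_mem hm (pow_mem hn k)) _ (N.inv_mem hm), hβ _ hm _ (pow_mem hn k),
      hc _ hm _ (pow_mem hn k), mul_assoc, ← hβ _ hm _ (N.inv_mem hm), mul_inv_cancel, h1, mul_one,
      hpow n hn]
  obtain ⟨i, hi⟩ := hq n hn
  have hco : k.Coprime (orderOf (β n)) := by
    refine Nat.Coprime.coprime_dvd_right (orderOf_dvd_of_pow_eq_one hi) ?_
    exact Nat.Coprime.pow_right _ ((Nat.Prime.coprime_iff_not_dvd hp.out).2 hk).symm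
  obtain ⟨l, hl⟩ := exists_pow_eq_self_of_coprime hco
  exact ⟨(m * n ^ k * m⁻¹) ^ l, pow_mem ht l, by rw [hpow _ (hP.le ht), h2, hl]⟩

/-! ### extension lemmas -/

/-- two homomorphisms with the same kernel differ by an automorphism -/
theorem Hg.ext (hG : Hg G) {X : Type*} [Group X] (f g : X →* G) (h : ∀ u, f u = 1 ↔ g u = 1) :
    ∃ φ : G ≃* G, ∀ u, φ (f u) = g u := by
  have hk : f.ker = g.ker := by ext u; simp [MonoidHom.mem_ker, h u]
  obtain ⟨φ, hφ⟩ := hG f.range g.range ((QuotientGroup.quotientKerEquivRange f).symm.trans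
    ((QuotientGroup.quotientMulEquivOfEq hk).trans (QuotientGroup.quotientKerEquivRange g)))
  refine ⟨φ, fun u => ?_⟩
  have := hφ ⟨f u, u, rfl⟩
  rw [show (⟨f u, u, rfl⟩ : f.range) = QuotientGroup.quotientKerEquivRange f (u : X ⧸ f.ker) from rfl]
    at this
  simp only [MulEquiv.trans_apply, MulEquiv.symm_apply_apply] at this
  exact this

/-- extension of `σ : K → G` together with `x ↦ y`, where `x` centralizes `K` -/
theorem Hg.ext_cent (hG : Hg G) (K : Subgroup G) (σ : K →* G) (x y : G)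
    (hx : ∀ k ∈ K, k * x = x * k) (hy : ∀ k : K, σ k * y = y * σ k)
    (h : ∀ (k : K) (n : ℤ), (k : G) * x ^ n = 1 ↔ σ k * y ^ n = 1) :
    ∃ φ : G ≃* G, (∀ k : K, φ k = σ k) ∧ φ x = y := by
  obtain ⟨φ, hφ⟩ := hG.ext
    (MonoidHom.noncommCoprod K.subtype (zpowersHom G x) fun k n =>
      Commute.zpow_right (hx k k.2) _)
    (MonoidHom.noncommCoprod σ (zpowersHom G y) fun k n => Commute.zpow_right (hy k) _)
    fun u => h u.1 u.2.toAdd
  have h1 : ∀ (k : K) (n : ℤ), φ (k * x ^ n) = σ k * y ^ n := fun k n =>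
    hφ (k, Multiplicative.ofAdd n)
  exact ⟨φ, fun k => by simpa using h1 k 0, by simpa using h1 1 1⟩

/-- elements of the same order are conjugate under the automorphism group -/
theorem Hg.ord (hG : Hg G) {x y : G} (h : orderOf x = orderOf y) : ∃ φ : G ≃* G, φ x = y := by
  obtain ⟨φ, -, h2⟩ := hG.ext_cent ⊥ 1 x y (by simp) (by simp) fun k n => by
    have : (k : G) = 1 := mem_bot.1 k.2
    simp only [this, one_mul, MonoidHom.one_apply, ← orderOf_dvd_iff_zpow_eq_one, h]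
  exact ⟨φ, h2⟩

/-- `K⟨x⟩ ≅ K⟨y⟩` over `K` when `x, y ∉ K` centralize `K` and `x² = y² ∈ K` -/
theorem Hg.ext_sq (hG : Hg G) {K : Subgroup G} {x y : G} (hx : ∀ k ∈ K, k * x = x * k)
    (hy : ∀ k ∈ K, k * y = y * k) (hx' : x ∉ K) (hy' : y ∉ K) (hs : x * x ∈ K)
    (e : x * x = y * y) : ∃ φ : G ≃* G, (∀ k ∈ K, φ k = k) ∧ φ x = y := by
  obtain ⟨φ, h1, h2⟩ := hG.ext_cent K K.subtype x y hx (fun k => hy k k.2) fun k n => by
    obtain ⟨m, rfl | rfl⟩ := Int.even_or_odd' n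
    · simp only [zpow_mul, zpow_ofNat, pow_two, e, coe_subtype]
    · simp only [zpow_add, zpow_mul, zpow_ofNat, pow_two, pow_one, coe_subtype, ← mul_assoc]
      refine iff_of_false (fun h => hx' ?_) (fun h => hy' ?_)
      · rw [eq_inv_of_mul_eq_one_right h]
        exact K.inv_mem (K.mul_mem k.2 (zpow_mem hs m))
      · rw [eq_inv_of_mul_eq_one_right h]
        exact K.inv_mem (K.mul_mem k.2 (zpow_mem (e ▸ hs) m))
  exact ⟨φ, fun k hk => h1 ⟨k, hk⟩, h2⟩

/-- the automorphism of `Y` fixing `W` pointwise and multiplying the other elements by `c` -/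
noncomputable def tvHom {W Y : Subgroup G} (h : Hy W Y) {c : G} (hc : c ∈ W)
    (hw : ∀ w ∈ W, w * c = c * w) (hi : ∀ y ∈ Y, y ∉ W → y * c * y⁻¹ = c⁻¹) : Y →* G :=
  MonoidHom.mk' (fun y => if (y : G) ∈ W then y else y * c) fun a b => by
    by_cases ha : (a : G) ∈ W <;> by_cases hb : (b : G) ∈ W
    · simp [ha, hb, W.mul_mem ha hb]
    · simp [ha, hb, h.mul_notMem' hb ha, mul_assoc]
    · simp [ha, hb, h.mul_notMem ha hb, mul_assoc, hw _ hb]
    · have h1 := hi b b.2 hb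
      have h2 : c * (b * c) = b := by
        calc c * (b * c) = c * (b * c * (b : G)⁻¹) * b := by group
          _ = b := by rw [h1]; group
      have _ := hc
      simp [ha, hb, h.mul _ a.2 _ b.2 ha hb, mul_assoc, h2]

theorem tvHom_of_mem {W Y : Subgroup G} (h : Hy W Y) {c : G} (hc : c ∈ W) (hw) (hi) {y : Y}
    (hy : (y : G) ∈ W) : tvHom h hc hw hi y = y := if_pos hy

theorem tvHom_of_notMem {W Y : Subgroup G} (h : Hy W Y) {c : G} (hc : c ∈ W) (hw) (hi) {y : Y}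
    (hy : (y : G) ∉ W) : tvHom h hc hw hi y = y * c := if_neg hy

/-- (TR') `c ∈ W` central in `W` and inverted by the elements of `Y` outside `W` -/
theorem Hg.tr' (hG : Hg G) {W Y : Subgroup G} (h : Hy W Y) {c : G} (hc : c ∈ W)
    (hw : ∀ w ∈ W, w * c = c * w) (hi : ∀ y ∈ Y, y ∉ W → y * c * y⁻¹ = c⁻¹) :
    ∃ φ : G ≃* G, Tv φ Y W c := by
  obtain ⟨φ, hφ⟩ := hG.ext Y.subtype (tvHom h hc hw hi) fun u => by
    by_cases hu : (u : G) ∈ W
    · rw [tvHom_of_mem h hc hw hi hu]; rfl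
    · rw [tvHom_of_notMem h hc hw hi hu]
      exact iff_of_false (fun e => hu (by rw [show (u : G) = 1 from e]; exact W.one_mem))
        fun e => h.mul_notMem hu hc (by rw [e]; exact W.one_mem)
  exact ⟨φ, fun x hx => (hφ ⟨x, h.le hx⟩).trans (tvHom_of_mem h hc hw hi hx),
    fun x hx hx' => (hφ ⟨x, hx⟩).trans (tvHom_of_notMem h hc hw hi hx')⟩

/-- (TR) `c ∈ W` a central involution of `Y` -/
theorem Hg.tr (hG : Hg G) {W Y : Subgroup G} (h : Hy W Y) {c : G} (hc : c ∈ W) (h2 : c * c = 1)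
    (hw : ∀ y ∈ Y, y * c = c * y) : ∃ φ : G ≃* G, Tv φ Y W c :=
  hG.tr' h hc (fun w hw' => hw w (h.le hw')) fun y hy _ => by
    rw [hw y hy, mul_inv_cancel_right, inv_eq_of_mul_eq_one_right h2]

/-- a transvection of the elementary group `E` that fixes an element `w` centralizing `E` -/
theorem Hg.tr_fix (hG : Hg G) {W E : Subgroup G} (hE : El E) (h : Hy W E) {c : G} (hc : c ∈ W)
    {w : G} (hw : ∀ e ∈ E, e * w = w * e) (hW : ∀ n : ℤ, w ^ n ∈ E → w ^ n ∈ W) :
    ∃ φ : G ≃* G, Tv φ E W c ∧ φ w = w := by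
  have h1 : ∀ w ∈ W, w * c = c * w := fun w hw => hE.comm (h.le hw) (h.le hc)
  have h2 : ∀ y ∈ E, y ∉ W → y * c * y⁻¹ = c⁻¹ := fun y hy _ => by
    rw [hE.comm hy (h.le hc), mul_inv_cancel_right, hE.inv (h.le hc)]
  have hm : ∀ k : E, tvHom h hc h1 h2 k ∈ E := fun k => by
    by_cases hk : (k : G) ∈ W
    · rw [tvHom_of_mem h hc h1 h2 hk]; exact k.2
    · rw [tvHom_of_notMem h hc h1 h2 hk]; exact E.mul_mem k.2 (h.le hc)
  obtain ⟨φ, a, b⟩ := hG.ext_cent E (tvHom h hc h1 h2) w w hw (fun k => hw _ (hm k)) fun k n => by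
    by_cases hk : (k : G) ∈ W
    · rw [tvHom_of_mem h hc h1 h2 hk]
    · rw [tvHom_of_notMem h hc h1 h2 hk]
      refine iff_of_false (fun e => hk ?_) (fun e => h.mul_notMem hk hc ?_)
      · rw [eq_inv_of_mul_eq_one_left e]
        exact W.inv_mem (hW n (by rw [eq_inv_of_mul_eq_one_right e]; exact E.inv_mem k.2))
      · rw [eq_inv_of_mul_eq_one_left e]
        exact W.inv_mem (hW n (by
          rw [eq_inv_of_mul_eq_one_right e]; exact E.inv_mem (E.mul_mem k.2 (h.le hc))))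
  exact ⟨φ, ⟨fun x hx => (a ⟨x, h.le hx⟩).trans (tvHom_of_mem h hc h1 h2 hx),
    fun x hx hx' => (a ⟨x, hx⟩).trans (tvHom_of_notMem h hc h1 h2 hx')⟩, b⟩

/-- `φ g g⁻¹` acts as the commutator of `φ` with the conjugation by `g` -/
theorem comm_act (φ : G ≃* G) (g y : G) :
    φ g * g⁻¹ * y * (φ g * g⁻¹)⁻¹ = φ (g * φ.symm (g⁻¹ * y * g) * g⁻¹) := by
  simp only [map_mul, map_inv, MulEquiv.apply_symm_apply]; group

theorem Hg.of_equiv {H : Type*} [Group H] (hG : Hg G) (e : G ≃* H) : Hg H := fun A B i => by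
  obtain ⟨φ, hφ⟩ := hG.ext (e.symm.toMonoidHom.comp A.subtype)
    (e.symm.toMonoidHom.comp (B.subtype.comp i.toMonoidHom)) fun u => by simp
  exact ⟨e.symm.trans (φ.trans e), fun a => by simpa using congrArg e (hφ a)⟩

theorem HgO.of_equiv {H : Type*} [Group H] (hG : HgO G) (e : G ≃* H) : HgO H := by
  constructor
  · intro x y h1 h2
    obtain ⟨φ, hφ⟩ := hG.one (e.symm x) (e.symm y) (by simpa using h1) (by simpa using h2)
    exact ⟨e.symm.trans (φ.trans e), by simp [hφ]⟩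
  · intro p hp ho a b b' h1 h2 h3 h4 h5 h6 h7
    have hz : ∀ b : H, b ∉ zpowers a → e.symm b ∉ zpowers (e.symm a) := fun b hb ⟨n, hn⟩ =>
      hb ⟨n, e.symm.injective (by simpa using hn)⟩
    obtain ⟨φ, a1, a2⟩ := hG.two p hp ho (e.symm a) (e.symm b) (e.symm b')
      (by rw [← map_pow, h1, map_one]) (by rw [← map_pow, h2, map_one])
      (by rw [← map_pow, h3, map_one]) (by rw [← map_mul, h4, map_mul])
      (by rw [← map_mul, h5, map_mul]) (hz b h6) (hz b' h7)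
    exact ⟨e.symm.trans (φ.trans e), by simp [a1], by simp [a2]⟩

/-- `a ↦ a`, `b ↦ b'` for commuting elements of prime order `p` -/
theorem Hg.two (hG : Hg G) {p : ℕ} (hp : p.Prime) {a b b' : G} (h2 : b ^ p = 1)
    (h3 : b' ^ p = 1) (h4 : a * b = b * a) (h5 : a * b' = b' * a) (h6 : b ∉ zpowers a)
    (h7 : b' ∉ zpowers a) : ∃ φ : G ≃* G, φ a = a ∧ φ b = b' := by
  have key : ∀ b : G, b ^ p = 1 → b ∉ zpowers a → ∀ (k : zpowers a) (n : ℤ),
      (k : G) * b ^ n = 1 ↔ (k : G) = 1 ∧ (p : ℤ) ∣ n := fun b hb hb' k n => by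
    have hz : ∀ m : ℤ, b ^ ((p : ℤ) * m) = 1 := fun m => by rw [zpow_mul, zpow_natCast, hb, one_zpow]
    constructor
    · intro h
      have hd : (p : ℤ) ∣ n := by
        by_contra hd
        obtain ⟨u, v, e⟩ := (Int.prime_iff_natAbs_prime.2 (by simpa using hp) :
          Prime (p : ℤ)).irreducible.coprime_iff_not_dvd.2 hd
        apply hb'
        have : b = (b ^ n) ^ v := by
          rw [← zpow_mul]
          conv_lhs => rw [← zpow_one b, ← e, zpow_add, mul_comm u, hz, one_mul, mul_comm]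
        rw [this, eq_inv_of_mul_eq_one_right h]
        exact zpow_mem (inv_mem k.2) _
      obtain ⟨m, rfl⟩ := hd
      exact ⟨by simpa [hz] using h, dvd_mul_right _ _⟩
    · rintro ⟨h, m, rfl⟩
      rw [h, hz, one_mul]
  have hc : ∀ b : G, a * b = b * a → ∀ k ∈ zpowers a, k * b = b * k := by
    rintro b hb _ ⟨n, rfl⟩
    exact Commute.zpow_left hb n
  obtain ⟨φ, a1, a2⟩ := hG.ext_cent (zpowers a) (zpowers a).subtype b b' (hc b h4)
    (fun k => hc b' h5 k k.2) fun k n => (key b h2 h6 k n).trans (key b' h3 h7 k n).symm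
  exact ⟨φ, a1 ⟨a, mem_zpowers a⟩, a2⟩

theorem Hg.hgO (hG : Hg G) : HgO G :=
  ⟨fun _ _ _ h => hG.ord h, fun _ hp _ _ _ _ _ h2 h3 h4 h5 h6 h7 => hG.two hp h2 h3 h4 h5 h6 h7⟩

end CfsgLib.Hom
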