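import Mathlib
import Cfsg.Agent.Lib.Hom.Defs
import Cfsg.Agent.S1947
import Cfsg.Prelude.Def_CaseTheorems

/-! Homogeneous quasisimple groups: the centre; Singer cycles; the central quotient. -/

set_option autoImplicit false

namespace CfsgLib.Hom
open Subgroup CfsgLib.Tech
open _root_.Classical

variable {G : Type*} [Group G] [Finite G]

theorem ns1_not_npc (hp : Group.IsPerfect G) {p : ℕ} [hq : Fact p.Prime] (hd : p ∣ Nat.card G) :
    ¬ Cfsg.HasNormalPComplement p G := by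
  rintro ⟨P, N, hN, hc⟩
  have h1 : N.index = Nat.card P := hc.symm.index_eq_card
  obtain ⟨k, hk⟩ := P.2.exists_card_eq
  have h2 : IsPGroup p (G ⧸ N) := IsPGroup.of_card (n := k) (by rw [← hk, ← h1]; rfl)
  have h3 : Subsingleton (G ⧸ N) := by
    by_contra h
    have : Nontrivial (G ⧸ N) := not_subsingleton_iff_nontrivial.1 h
    exact Group.IsPerfect.not_isNilpotent (G ⧸ N) h2.isNilpotent
  have h4 : N.index = 1 := Nat.card_of_subsingleton (1 : G ⧸ N)
  have h5 := P.dvd_card_of_dvd_card hd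
  rw [← h1, h4] at h5
  exact hq.out.not_dvd_one h5

theorem ns1_central (hG : Hg G) {z x : G} (hz : z ∈ center G) (hx : orderOf x ∣ orderOf z) :
    x ∈ center G := by
  obtain ⟨φ, hφ⟩ := hG.ord (orderOf_pow_orderOf_div (orderOf_pos z).ne' hx)
  rw [← hφ]
  exact MulEquivClass.apply_mem_center φ (pow_mem hz _ : _ ∈ center G)

theorem center_el (hG : Hg G) (hp : Group.IsPerfect G) (hZ : center G ≠ ⊥) :
    El (center G) ∧ ∀ x : G, x * x = 1 → x ∈ center G := by
  have hel : El (center G) := fun z hz => by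
    obtain ⟨j, k, hk, e⟩ :=
      Nat.exists_eq_pow_mul_and_not_dvd (orderOf_pos z).ne' 2 (by norm_num)
    have hk1 : k = 1 := by
      by_contra h1
      have hq := Nat.minFac_prime h1
      have : Fact k.minFac.Prime := ⟨hq⟩
      have hd : k.minFac ∣ orderOf z := e ▸ (Nat.minFac_dvd k).mul_left _
      refine ns1_not_npc hp (hd.trans (orderOf_dvd_natCard z))
        (Cfsg.Agent.S1947.result 1 fun a ha => ?_)
      rw [Subgroup.upperCentralSeries_one]
      rcases ha with ha | ⟨ha, -⟩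
      · exact ns1_central hG hz ((orderOf_dvd_of_pow_eq_one ha).trans hd)
      · exact absurd (ha ▸ Nat.minFac_dvd k) hk
    have hj : j ≤ 1 := by
      by_contra h1
      have hd : 4 ∣ orderOf z := by
        rw [e]
        exact (pow_dvd_pow 2 (show 2 ≤ j by omega)).mul_right _
      have h24 : 2 ∣ 4 := by norm_num
      refine ns1_not_npc (p := 2) hp ((h24.trans hd).trans (orderOf_dvd_natCard z))
        (Cfsg.Agent.S1947.result 1 fun a ha => ?_)
      rw [Subgroup.upperCentralSeries_one]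
      rcases ha with ha | ⟨-, ha⟩
      · exact ns1_central hG hz ((orderOf_dvd_of_pow_eq_one ha).trans (h24.trans hd))
      · exact ns1_central hG hz ((orderOf_dvd_of_pow_eq_one ha).trans hd)
    rw [← pow_two, ← orderOf_dvd_iff_pow_eq_one, e, hk1, mul_one]
    simpa using pow_dvd_pow 2 hj
  refine ⟨hel, fun x hx => ?_⟩
  obtain ⟨⟨z, hz⟩, h1⟩ := ne_bot_iff_exists_ne_one.1 hZ
  have h2 : orderOf z = 2 :=
    orderOf_eq_prime (by rw [pow_two]; exact hel z hz) fun h => h1 (Subtype.ext h)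
  exact ns1_central hG hz (by rw [h2, orderOf_dvd_iff_pow_eq_one, pow_two, hx])

theorem exists_singer {E : Type*} [Group E] [Finite E] (h : ∀ x : E, x * x = 1) :
    ∃ σ : MulAut E, ∀ x y : E, x ≠ 1 → y ≠ 1 → ∃ k : ℕ, (σ ^ k) x = y := by
  rcases subsingleton_or_nontrivial E with hs | hs
  · exact ⟨1, fun x _ hx _ => absurd (Subsingleton.elim _ _) hx⟩
  have hE : El (⊤ : Subgroup E) := fun x _ => h x
  letI : CommGroup E := { ‹Group E› with mul_comm := fun x y => hE.comm trivial trivial }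
  letI : Module (ZMod 2) (Additive E) := AddCommGroup.zmodModule fun x => by
    rw [two_nsmul]
    exact congrArg Additive.ofMul (h x.toMul)
  have hm : Module.finrank (ZMod 2) (Additive E) ≠ 0 := Module.finrank_pos.ne'
  let L : Additive E ≃ₗ[ZMod 2] GaloisField 2 (Module.finrank (ZMod 2) (Additive E)) :=
    LinearEquiv.ofFinrankEq _ _ (GaloisField.finrank 2 hm).symm
  obtain ⟨ζ, hζ⟩ :=
    IsCyclic.exists_monoid_generator (α := (GaloisField 2 (Module.finrank (ZMod 2) (Additive E)))ˣ)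
  let σ : MulAut E :=
    { toFun := fun x => (L.symm (ζ * L (Additive.ofMul x))).toMul
      invFun := fun x => (L.symm (↑ζ⁻¹ * L (Additive.ofMul x))).toMul
      left_inv := fun x => by simp
      right_inv := fun x => by simp
      map_mul' := fun x y => by simp [mul_add] }
  have hσ : ∀ (k : ℕ) (x : E), (σ ^ k) x = (L.symm (↑(ζ ^ k) * L (Additive.ofMul x))).toMul := by
    intro k
    induction k with
    | zero => intro x; simp
    | succ k ih =>
      intro x
      rw [pow_succ, MulAut.mul_apply, ih, pow_succ]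
      simp [σ, mul_assoc]
  refine ⟨σ, fun x y hx hy => ?_⟩
  have hx' : L (Additive.ofMul x) ≠ 0 := by simpa using hx
  have hy' : L (Additive.ofMul y) ≠ 0 := by simpa using hy
  obtain ⟨k, hk⟩ := hζ (Units.mk0 _ (div_ne_zero hy' hx'))
  refine ⟨k, ?_⟩
  have hk' : ζ ^ k = Units.mk0 _ (div_ne_zero hy' hx') := hk
  rw [hσ, hk', Units.val_mk0, div_mul_cancel₀ _ hx']
  simp

omit [Finite G] in
theorem ns1_lift (hZ : El (center G)) {n : ℕ} (hn : Odd n) {x : G ⧸ center G} (hx : x ^ n = 1) :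
    ∃ y : G, (y : G ⧸ center G) = x ∧ y ^ n = 1 := by
  obtain ⟨y, rfl⟩ := QuotientGroup.mk_surjective x
  have h1 : y ^ n ∈ center G := (QuotientGroup.eq_one_iff _).1 (by rw [← hx]; rfl)
  obtain ⟨m, hm⟩ := hn
  refine ⟨y ^ (n + 1), by rw [QuotientGroup.mk_pow, pow_succ, hx, one_mul], ?_⟩
  rw [← pow_mul, mul_comm, pow_mul, show n + 1 = 2 * (m + 1) by omega, pow_mul, pow_two,
    hZ _ h1, one_pow]

omit [Finite G] in
theorem ns1_quot (φ : G ≃* G) : ∃ ψ : (G ⧸ center G) ≃* (G ⧸ center G),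
    ∀ x : G, ψ (x : G ⧸ center G) = (φ x : G ⧸ center G) :=
  ⟨QuotientGroup.congr _ _ φ (characteristic_iff_map_eq.1 inferInstance φ), fun _ => rfl⟩

omit [Finite G] in
theorem ns1_comm (hZ : El (center G)) {p : ℕ} (hp : Odd p) {a b : G} (ha : a ^ p = 1)
    (h : (a : G ⧸ center G) * b = b * a) : a * b = b * a := by
  have hz : (b * a)⁻¹ * (a * b) ∈ center G := QuotientGroup.eq.1 h.symm
  obtain ⟨z, hz'⟩ : ∃ z, z = (b * a)⁻¹ * (a * b) := ⟨_, rfl⟩
  rw [← hz'] at hz
  have h1 : a * b = b * a * z := by rw [hz']; group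
  have h2 : ∀ k : ℕ, a ^ k * b = b * a ^ k * z ^ k := fun k => by
    induction k with
    | zero => simp
    | succ k ih =>
      rw [pow_succ', mul_assoc, ih, ← mul_assoc, ← mul_assoc, h1, pow_succ' z,
        mul_assoc (b * a) z, ← mem_center_iff.1 hz (a ^ k)]
      group
  have h3 := h2 p
  obtain ⟨m, rfl⟩ := hp
  rw [ha, pow_succ, pow_mul, pow_two, hZ z hz, one_pow] at h3
  have : z = 1 := by simpa using h3
  rw [h1, this, mul_one]

theorem hgO_quot (hG : Hg G) (hZ : El (center G)) : HgO (G ⧸ center G) := by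
  constructor
  · intro x y ho e
    obtain ⟨x', rfl, hx⟩ := ns1_lift hZ ho (pow_orderOf_eq_one x)
    obtain ⟨y', rfl, hy⟩ := ns1_lift hZ (e ▸ ho) (pow_orderOf_eq_one y)
    have key : ∀ u : G, u ^ orderOf (u : G ⧸ center G) = 1 →
        orderOf u = orderOf (u : G ⧸ center G) := fun u hu =>
      Nat.dvd_antisymm (orderOf_dvd_of_pow_eq_one hu)
        (orderOf_map_dvd (QuotientGroup.mk' (center G)) u)
    obtain ⟨φ, hφ⟩ := hG.ord (x := x') (y := y') (by rw [key _ hx, key _ hy, e])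
    obtain ⟨ψ, hψ⟩ := ns1_quot φ
    exact ⟨ψ, by rw [hψ, hφ]⟩
  · intro p hp ho a b b' h1 h2 h3 h4 h5 h6 h7
    obtain ⟨a, rfl, ha⟩ := ns1_lift hZ ho h1
    obtain ⟨b, rfl, hb⟩ := ns1_lift hZ ho h2
    obtain ⟨b', rfl, hb'⟩ := ns1_lift hZ ho h3
    have hz : ∀ c : G, (c : G ⧸ center G) ∉ zpowers (a : G ⧸ center G) → c ∉ zpowers a :=
      fun c hc ⟨n, hn⟩ => hc ⟨n, by rw [← hn]; rfl⟩
    obtain ⟨φ, e1, e2⟩ := hG.two hp hb hb' (ns1_comm hZ ho ha h4) (ns1_comm hZ ho ha h5)
      (hz b h6) (hz b' h7)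
    obtain ⟨ψ, hψ⟩ := ns1_quot φ
    exact ⟨ψ, by rw [hψ, e1], by rw [hψ, e2]⟩

end CfsgLib.Hom
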