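import Mathlib
import Cfsg.Agent.Lib.Hom.KEY
import Cfsg.Agent.Lib.Hom.NS1
import Cfsg.Agent.Lib.W2.Tools
import Cfsg.Agent.Lib.Comp.Quasisimple
import Cfsg.Agent.S3776

/-! Homogeneous quasisimple groups: the centre has order at most two. -/

set_option autoImplicit false

namespace CfsgLib.Hom
open Subgroup CfsgLib.Tech
open _root_.Classical

variable {G : Type*} [Group G] [Finite G]

/-- the centralizer of `w` modulo the centre -/
def ns2_N (w : G) : Subgroup G :=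
  (W2.Cx (QuotientGroup.mk' (center G) w)).comap (QuotientGroup.mk' (center G))

omit [Finite G] in
theorem ns2_mem {w k : G} : k ∈ ns2_N w ↔ w⁻¹ * (k * w * k⁻¹) ∈ center G := by
  rw [ns2_N, mem_comap, W2.mem_Cx', ← map_inv, ← map_mul, ← map_mul, eq_comm,
    QuotientGroup.mk'_apply, QuotientGroup.mk'_apply, QuotientGroup.eq]

omit [Finite G] in
theorem ns2_cz (φ : G ≃* G) {d : G} (hd : d ∈ center G) : φ d ∈ center G :=
  mem_center_iff.2 fun g => by
    rw [← φ.apply_symm_apply g, ← map_mul, ← map_mul, mem_center_iff.1 hd]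

theorem ns2_O (hq : Cfsg.IsQuasisimple G) {z : G} (h1 : z ≠ 1) (h2 : z * z = 1) :
    PComp.opOf 2 (⊤ : Subgroup G) ≤ center G := by
  haveI : Fact (Nat.Prime 2) := ⟨Nat.prime_two⟩
  refine (Comp.qs_normal hq _ (PComp.opOf_normal ⊤)).resolve_left fun h => ?_
  have h3 := W2.odd_card_opOf (⊤ : Subgroup G)
  have h4 := Subgroup.orderOf_dvd_natCard (PComp.opOf 2 (⊤ : Subgroup G))
    (show z ∈ PComp.opOf 2 (⊤ : Subgroup G) by rw [h]; exact mem_top z)
  rw [W2.ord_two h2 h1] at h4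
  exact (Nat.not_even_iff_odd.2 h3) (even_iff_two_dvd.2 h4)

theorem ns2_iso (hq : Cfsg.IsQuasisimple G) (hO : PComp.opOf 2 (⊤ : Subgroup G) ≤ center G)
    {S : Subgroup G} (hS : IsSylowIn 2 S ⊤) (hZS : center G ≤ S) {w : G} (hw : w ∈ S)
    (hw' : w ∉ center G) (hiso : ∀ k, k * w * k⁻¹ ∈ S → k ∈ ns2_N w) : False := by
  have h1 : ⊤ ≤ ns2_N w := W2.le_of_weaklyClosed_mod hS hZS
    (fun k _ u hu => mem_center_iff.1 hu k) hw (fun k _ hk => ns2_mem.1 (hiso k hk))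
    (fun x hx => ns2_mem.2 (by
      rw [← mem_center_iff.1 (hO hx) w, mul_inv_cancel_right, inv_mul_cancel]
      exact one_mem _)) fun k _ hk => ns2_mem.2 hk
  have h2 : w ∈ (center (G ⧸ center G)).comap (QuotientGroup.mk' (center G)) := by
    rw [mem_comap, mem_center_iff]
    intro g
    obtain ⟨k, rfl⟩ := QuotientGroup.mk'_surjective (center G) g
    exact W2.mem_Cx.1 (mem_comap.1 (h1 (mem_top k)))
  rcases Comp.qs_normal hq ((center (G ⧸ center G)).comap (QuotientGroup.mk' (center G)))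
    inferInstance with h | h
  · refine Comp.qs_quotient_center_not_isMulCommutative hq ⟨⟨fun a b => ?_⟩⟩
    obtain ⟨k, rfl⟩ := QuotientGroup.mk'_surjective (center G) b
    exact mem_center_iff.1 (mem_comap.1 (show k ∈ (center (G ⧸ center G)).comap
      (QuotientGroup.mk' (center G)) by rw [h]; exact mem_top k)) a
  · exact hw' (h h2)

/-- squares and commutators of a non-abelian Sylow 2-subgroup are central -/
theorem ns2_sq (hG : Hg G) (hZ : El (center G)) (hI : ∀ x : G, x * x = 1 → x ∈ center G)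
    (h4 : 4 ≤ Nat.card (center G)) {S : Subgroup G} (hS : IsSylowIn 2 S ⊤) (hZS : center G ≤ S)
    (hna : ¬ IsMulCommutative S) :
    (∀ x ∈ S, x * x ∈ center G) ∧ ∀ x ∈ S, ∀ y ∈ S, y ∈ ns2_N x := by
  haveI : Fact (Nat.Prime 2) := ⟨Nat.prime_two⟩
  obtain ⟨σ, hσ⟩ := exists_singer (E := center G) fun x => Subtype.ext (hZ x x.2)
  obtain ⟨φ, hφ⟩ := hG (center G) (center G) σ
  have h1 : IsSylowIn 2 (S.map φ.toMonoidHom) ⊤ := hS.of_card_le (hS.pgroup.map _) le_top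
    (card_map_of_injective φ.injective).ge
  obtain ⟨g, -, hg⟩ := h1.exists_cj_eq hS
  have h2 : S.map (φ.trans (MulAut.conj g) : G →* G) = S := by
    ext x
    conv_rhs => rw [← hg, mem_cj]
    simp only [mem_map]
    constructor
    · rintro ⟨y, hy, rfl⟩
      exact ⟨y, hy, by simp [mul_assoc]⟩
    · rintro ⟨y, hy, e⟩
      have e' : φ y = g⁻¹ * x * g := e
      exact ⟨y, hy, by simp [e', mul_assoc]⟩
  let α : MulAut S := ((φ.trans (MulAut.conj g)).subgroupMap S).trans (MulEquiv.subgroupCongr h2)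
  have hα : ∀ x : S, ((α x : S) : G) = g * φ x * g⁻¹ := fun x => rfl
  have hk : ∀ (k : ℕ) (x : S) (z : center G), (x : G) = z →
      (((α ^ k) x : S) : G) = ((σ ^ k) z : center G) := fun k => by
    induction k with
    | zero => intro x z h; simpa using h
    | succ k ih =>
      intro x z h
      rw [pow_succ, pow_succ, MulAut.mul_apply, MulAut.mul_apply]
      refine ih _ _ ?_
      rw [hα, h, hφ z, mem_center_iff.1 (σ z).2 g, mul_inv_cancel_right]
  have hsq : ∀ x : S, x ^ 2 = 1 → (x : G) ∈ center G := fun x hx =>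
    hI _ (by simpa [pow_two] using congrArg Subtype.val hx)
  obtain ⟨a, ha, ha1, -, -⟩ := exists_ne_three h4 1 1 1
  obtain ⟨b, hb, hb1, hb2, -⟩ := exists_ne_three h4 1 a a
  obtain ⟨e1, e2, e3⟩ := Cfsg.Agent.S3776.result hS.pgroup hna
    ⟨⟨a, hZS ha⟩, ⟨b, hZS hb⟩, fun h => hb2 (congrArg Subtype.val h).symm,
      fun h => ha1 (congrArg Subtype.val h), Subtype.ext (by simpa [pow_two] using hZ a ha),
      fun h => hb1 (congrArg Subtype.val h), Subtype.ext (by simpa [pow_two] using hZ b hb)⟩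
    ⟨zpowers α, Group.isSolvable_of_comm (by
      rintro ⟨_, m, rfl⟩ ⟨_, n, rfl⟩
      exact Subtype.ext (zpow_mul_comm α m n)), fun x y x1 x2 y1 y2 => by
      obtain ⟨k, e⟩ := hσ ⟨x, hsq x x2⟩ ⟨y, hsq y y2⟩
        (fun h => x1 (Subtype.ext (congrArg Subtype.val h :)))
        (fun h => y1 (Subtype.ext (congrArg Subtype.val h :)))
      exact ⟨α ^ k, pow_mem (mem_zpowers α) k, Subtype.ext (by
        rw [hk k x ⟨x, hsq x x2⟩ rfl, e])⟩⟩
  refine ⟨fun x hx => ?_, fun x hx y hy => ns2_mem.2 ?_⟩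
  · have := hsq _ ((e3 _).1 (e2 ▸ PGroup.pow_mem_frattini hS.pgroup ⟨x, hx⟩))
    simpa [pow_two] using this
  · have h3 : (⟨x, hx⟩ : S)⁻¹ * (⟨y, hy⟩ : S) * (⟨x, hx⟩ : S)⁻¹⁻¹ * (⟨y, hy⟩ : S)⁻¹ ∈ commutator S :=
      commutator_mem_commutator (mem_top _) (mem_top _)
    rw [e1, e2] at h3
    have := hsq _ ((e3 _).1 h3)
    simpa [mul_assoc] using this

theorem ns2_b (hG : Hg G) (hZ : El (center G)) (hI : ∀ x : G, x * x = 1 → x ∈ center G)
    (h4 : 4 ≤ Nat.card (center G)) {S : Subgroup G} (hS : IsSylowIn 2 S ⊤) (hZS : center G ≤ S)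
    (hsq : ∀ x ∈ S, x * x ∈ center G) (hcm : ∀ x ∈ S, ∀ y ∈ S, y ∈ ns2_N x) {g y₀ : G}
    (hg : g ∈ normalizer (S : Set G)) (hy₀ : y₀ ∈ S) : y₀⁻¹ * (g⁻¹ * y₀ * g) ∈ center G := by
  haveI : Fact (Nat.Prime 2) := ⟨Nat.prime_two⟩
  by_contra hu
  have hy₁ := conj_mem_of_mem_normalizer' hg hy₀
  obtain ⟨W, hW, hZW, huW⟩ := exists_hy hZS hsq (S.mul_mem (S.inv_mem hy₀) hy₁) hu
  have hy₀' : y₀ ∉ center G := fun h => hu (by
    rw [mem_center_iff.1 h g⁻¹, inv_mul_cancel_right, inv_mul_cancel]; exact one_mem _)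
  have hC : centralizer (center G : Set G) = ⊤ :=
    eq_top_iff.2 fun x _ => mem_centralizer_iff.2 fun h hh => (mem_center_iff.1 hh x).symm
  have hk : ∀ c ∈ center G, ∃ w ∈ S, (∀ y ∈ S, w * y * w⁻¹ = y ∨ w * y * w⁻¹ = y * c) ∧
      w * y₀ * w⁻¹ = y₀ * c := fun c hc => by
    obtain ⟨w, hw, h⟩ := key hG hZ hZW hW (hC ▸ hS) hc hg (le_normalizer_of_normal (mem_top g))
    have e : g * c * g⁻¹ = c := by rw [mem_center_iff.1 hc g, mul_inv_cancel_right]
    rw [e] at h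
    refine ⟨w, hw, fun y hy => ?_, ?_⟩
    · rw [h y hy]
      split_ifs <;> simp [mul_assoc, hZ c hc]
    · rw [h y₀ hy₀]
      split_ifs with a b b
      · exact absurd (W.mul_mem (W.inv_mem a) b) huW
      · simp
      · simp
      · exact absurd (hW.inv_mul hy₀ hy₁ a b) huW
  have ho : ∀ x ∈ S, x ∉ center G → orderOf x = 2 ^ (1 + 1) := fun x hx hx' =>
    orderOf_eq_prime_pow (fun h => hx' (hI x (by simpa [pow_two] using h))) (by
      rw [pow_succ 2 1, pow_mul, pow_one, pow_two, pow_two]; exact hZ _ (hsq x hx))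
  obtain ⟨c, hc, hc1, -, -⟩ := exists_ne_three h4 1 1 1
  obtain ⟨d, hd, hd1, hd2, -⟩ := exists_ne_three h4 1 c c
  obtain ⟨w, hw, hw1, hw2⟩ := hk c hc
  have hw' : w ∉ center G := fun h => hc1 (by
    rw [← mem_center_iff.1 h y₀, mul_inv_cancel_right] at hw2
    exact (mul_left_cancel (a := y₀) (by rw [← hw2, mul_one])))
  obtain ⟨φ, hφ⟩ := hG.ord ((ho y₀ hy₀ hy₀').trans (ho w hw hw').symm)
  obtain ⟨v, -, -, hv⟩ := hk _ (ns2_cz φ.symm hd)
  have h1 : φ v * w * (φ v)⁻¹ = w * d := by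
    rw [← hφ, ← map_inv, ← map_mul, ← map_mul, hv, map_mul, φ.apply_symm_apply]
  obtain ⟨t, ht, e⟩ := img_syl hZ (N := ⊤) (fun n _ k hk => mem_center_iff.1 hk n) hS
    (fun t ht => ns2_mem.1 (hcm w hw t ht)) (mem_top (φ v))
    (by rw [h1, inv_mul_cancel_left]; exact hd)
  rw [h1] at e
  rcases hw1 t ht with a | a
  · refine hd1 (mul_left_cancel (a := w) ?_)
    rw [← e, ← mul_inv_eq_iff_eq_mul.1 a]; group
  · refine hd2 (mul_left_cancel (a := w) ?_)
    have a1 : w * t = t * w * c := by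
      rw [mul_inv_eq_iff_eq_mul.1 a, mul_assoc, mul_assoc, mem_center_iff.1 hc w]
    have a2 : t * w = w * t * c := by rw [a1, mul_assoc, hZ c hc, mul_one]
    rw [← e, a2, mul_assoc w, mem_center_iff.1 hc t]; group

theorem card_center_le (hG : Hg G) (hq : Cfsg.IsQuasisimple G) (hZ : El (center G))
    (hI : ∀ x : G, x * x = 1 → x ∈ center G) : Nat.card (center G) ≤ 2 := by
  haveI : Fact (Nat.Prime 2) := ⟨Nat.prime_two⟩
  by_contra hlt
  have h4 : 4 ≤ Nat.card (center G) := by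
    obtain ⟨n, hn⟩ := hZ.isPGroup.exists_card_eq
    rw [hn] at hlt ⊢
    match n, hlt with
    | 0, h => exact absurd (by norm_num) h
    | 1, h => exact absurd (by norm_num) h
    | n + 2, _ => exact Nat.pow_le_pow_right (n := 2) (by norm_num) (show 2 ≤ n + 2 by omega)
  obtain ⟨z, hz, hz1, -, -⟩ := exists_ne_three h4 1 1 1
  have hO := ns2_O hq hz1 (hZ z hz)
  obtain ⟨S, hS, hZS⟩ := exists_isSylowIn_ge hZ.isPGroup (le_top (a := center G))
  obtain ⟨x, hx, hx'⟩ : ∃ x ∈ S, x ∉ center G := by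
    by_contra hc
    push Not at hc
    exact Comp.qs_center_ne_top hq (eq_top_iff.2 (W2.le_of_npc
      (W2.npc_of_burnside hS fun n _ _ x hx => mem_center_iff.1 (hc x hx) n) hS hO hc))
  by_cases hab : IsMulCommutative S
  · have hc : ∀ a ∈ S, ∀ b ∈ S, a * b = b * a := fun a ha b hb =>
      congrArg Subtype.val (hab.is_comm.comm (⟨a, ha⟩ : S) ⟨b, hb⟩)
    obtain ⟨k, hk⟩ := isPGroup_iff_mem.1 hS.pgroup x hx
    have hex : ∃ i, x ^ 2 ^ i ∈ center G := ⟨k, by rw [hk]; exact one_mem _⟩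
    obtain ⟨i, hi⟩ : ∃ i, Nat.find hex = i + 1 := Nat.exists_eq_succ_of_ne_zero fun h0 => by
      have := Nat.find_spec hex
      rw [h0] at this
      exact hx' (by simpa using this)
    have hw' : x ^ 2 ^ i ∉ center G := Nat.find_min hex (by omega)
    have hs : x ^ 2 ^ i * x ^ 2 ^ i ∈ center G := by
      have := Nat.find_spec hex
      rwa [hi, pow_succ, pow_mul, pow_two] at this
    have hw : x ^ 2 ^ i ∈ S := pow_mem hx _
    generalize x ^ 2 ^ i = w at hw hw' hs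
    refine ns2_iso hq hO hS hZS hw hw' fun k hk => ns2_mem.2 (hI _ ?_)
    have h1 := hc _ (S.inv_mem hw) _ hk
    calc w⁻¹ * (k * w * k⁻¹) * (w⁻¹ * (k * w * k⁻¹))
        = w⁻¹ * (k * w * k⁻¹ * w⁻¹) * (k * w * k⁻¹) := by group
      _ = (w * w)⁻¹ * (k * (w * w)) * k⁻¹ := by rw [← h1]; group
      _ = 1 := by rw [mem_center_iff.1 hs k]; group
  · obtain ⟨hsq, hcm⟩ := ns2_sq hG hZ hI h4 hS hZS hab
    refine ns2_iso hq hO hS hZS hx hx' fun k hk => ?_
    have h1 : IsSylowIn 2 S (ns2_N x) := hS.of_le (hcm x hx) le_top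
    have h2 : IsSylowIn 2 (cj k⁻¹ S) (ns2_N x) := (hS.cj_of_mem (mem_top k⁻¹)).of_le
      (cj_le_iff.2 fun s hs => ns2_mem.2 (by
        have := (inferInstance : (center G).Normal).conj_mem _ (ns2_mem.1 (hcm _ hk s hs)) k⁻¹
        convert this using 1; group)) le_top
    obtain ⟨m, hm, e⟩ := h2.exists_cj_eq h1
    have h3 : m * k⁻¹ ∈ normalizer (S : Set G) := mem_normalizer_iff_cj.2 (by rw [cj_mul, e])
    have h5 : (m * k⁻¹)⁻¹ ∈ ns2_N x := ns2_mem.2 (by
      rw [inv_inv]; exact ns2_b hG hZ hI h4 hS hZS hsq hcm h3 hx)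
    simpa using mul_mem h5 hm

end CfsgLib.Hom
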