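import Mathlib
import Cfsg.Agent.Lib.Hom.NS1
import Cfsg.Agent.Lib.FT.OddOrder
import Cfsg.Agent.Lib.Core.Cores

/-! Homogeneous groups (S3924): a perfect homogeneous group has no normal subgroup of odd order. -/

set_option autoImplicit false

namespace CfsgLib.Hom
open Subgroup CfsgLib.Tech
open _root_.Classical

variable {G : Type*} [Group G]

/-- `K` is fixed pointwise and `b ↦ b'` -/
theorem Hg.fixK (hG : Hg G) {p : ℕ} (hp : p.Prime) {K : Subgroup G} {b b' : G} (h2 : b ^ p = 1)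
    (h3 : b' ^ p = 1) (h4 : ∀ k ∈ K, k * b = b * k) (h5 : ∀ k ∈ K, k * b' = b' * k) (h6 : b ∉ K)
    (h7 : b' ∉ K) : ∃ φ : G ≃* G, (∀ k ∈ K, φ k = k) ∧ φ b = b' := by
  have key : ∀ b : G, b ^ p = 1 → b ∉ K → ∀ (k : K) (n : ℤ),
      (k : G) * b ^ n = 1 ↔ (k : G) = 1 ∧ (p : ℤ) ∣ n := fun b hb hb' k n => by
    have hz : ∀ m : ℤ, b ^ ((p : ℤ) * m) = 1 := fun m => by rw [zpow_mul, zpow_natCast, hb, one_zpow]
    constructor
    · intro h
      have hd : (p : ℤ) ∣ n := by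
        by_contra hd
        obtain ⟨u, v, e⟩ := (Int.prime_iff_natAbs_prime.2 (by simpa using hp) :
          Prime (p : ℤ)).irreducible.coprime_iff_not_dvd.2 hd
        apply hb'
        have : b = (b ^ n) ^ v := by
          rw [← zpow_mul]
          conv_lhs => rw [← zpow_one b, ← e, zpow_add, mul_comm u, hz, one_mul, mul_comm]
        rw [this, eq_inv_of_mul_eq_one_right h]
        exact zpow_mem (inv_mem k.2) _
      obtain ⟨m, rfl⟩ := hd
      exact ⟨by simpa [hz] using h, dvd_mul_right _ _⟩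
    · rintro ⟨h, m, rfl⟩
      rw [h, hz, one_mul]
  obtain ⟨φ, a1, a2⟩ := hG.ext_cent K K.subtype b b' h4
    (fun k => h5 k k.2) fun k n => (key b h2 h6 k n).trans (key b' h3 h7 k n).symm
  exact ⟨φ, fun k hk => a1 ⟨k, hk⟩, a2⟩

/-- the elements of order dividing the odd prime `p` commute -/
structure SpA (p : ℕ) (G : Type*) [Group G] : Prop where
  prime : p.Prime
  odd : p ≠ 2
  comm : ∀ x y : G, x ^ p = 1 → y ^ p = 1 → Commute x y

theorem sp_conj {p : ℕ} {x : G} (hx : x ^ p = 1) (g : G) : (g * x * g⁻¹) ^ p = 1 := by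
  rw [conj_pow, hx, mul_one, mul_inv_cancel]

theorem sp_conj' {p : ℕ} {x : G} (hx : x ^ p = 1) (g : G) : (g⁻¹ * x * g) ^ p = 1 := by
  simpa using sp_conj hx g⁻¹

theorem sp_inv {p : ℕ} {x : G} (hx : x ^ p = 1) : x⁻¹ ^ p = 1 := by rw [inv_pow, hx, inv_one]

theorem sp_zpow {p : ℕ} {x : G} (hx : x ^ p = 1) (n : ℤ) : (x ^ n) ^ p = 1 := by
  rw [← zpow_natCast, ← zpow_mul, mul_comm, zpow_mul, zpow_natCast, hx, one_zpow]

theorem sp_pow {p : ℕ} {x : G} (hx : x ^ p = 1) (n : ℕ) : (x ^ n) ^ p = 1 := by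
  rw [← pow_mul, mul_comm, pow_mul, hx, one_pow]

theorem sp_eq_one {p k : ℕ} (hp : p.Prime) {x : G} (hx : x ^ p = 1) (hk : ¬ p ∣ k) (h : x ^ k = 1) :
    x = 1 := by
  have := pow_gcd_eq_one.2 ⟨hx, h⟩
  rwa [Nat.Coprime.gcd_eq_one (hp.coprime_iff_not_dvd.2 hk), pow_one] at this

theorem sp_iter {x a b : G} (ha : x * a * x⁻¹ = a) (hb : x * b * x⁻¹ = b * a) (n : ℕ) :
    x ^ n * b * (x ^ n)⁻¹ = b * a ^ n := by
  induction n with
  | zero => simp
  | succ n ih =>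
    calc x ^ (n + 1) * b * (x ^ (n + 1))⁻¹ = x * (x ^ n * b * (x ^ n)⁻¹) * x⁻¹ := by group
      _ = x * b * x⁻¹ * (x * a * x⁻¹) ^ n := by rw [ih, conj_pow]; group
      _ = _ := by rw [ha, hb]; group

namespace SpA
variable {p : ℕ} (h : SpA p G)
include h

theorem mul {x y : G} (hx : x ^ p = 1) (hy : y ^ p = 1) : (x * y) ^ p = 1 := by
  rw [(h.comm x y hx hy).mul_pow, hx, hy, one_mul]

theorem not_dvd_two : ¬ p ∣ 2 := fun e => h.odd ((Nat.prime_dvd_prime_iff_eq h.prime Nat.prime_two).1 e)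

theorem sq {x : G} (hx : x ^ p = 1) (e : x * x = 1) : x = 1 :=
  sp_eq_one h.prime hx h.not_dvd_two (by rwa [pow_two])

/-- an element whose square centralizes the elements of order `p` centralizes or inverts them -/
theorem cent_or_inv [Finite G] (hG : Hg G) {t : G} (ht : ∀ v : G, v ^ p = 1 → Commute (t * t) v) :
    (∀ v : G, v ^ p = 1 → t * v * t⁻¹ = v) ∨ ∀ v : G, v ^ p = 1 → t * v * t⁻¹ = v⁻¹ := by
  have : Fact p.Prime := ⟨h.prime⟩
  by_contra hc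
  push Not at hc
  obtain ⟨⟨b₀, hb₀, hb₀'⟩, a₀, ha₀, ha₀'⟩ := hc
  have t2 : ∀ v : G, v ^ p = 1 → t * (t * v * t⁻¹) * t⁻¹ = v := fun v hv => by
    calc t * (t * v * t⁻¹) * t⁻¹ = t * t * v * (t * t)⁻¹ := by group
      _ = v := by rw [(ht v hv).eq, mul_inv_cancel_right]
  have fx : ∀ v : G, v ^ p = 1 → t * (v * (t * v * t⁻¹)) * t⁻¹ = v * (t * v * t⁻¹) := fun v hv => by
    rw [← conj_mul, t2 v hv, (h.comm _ _ hv (sp_conj hv t)).eq]
  obtain ⟨a, ha, ha1, hta⟩ : ∃ a : G, a ^ p = 1 ∧ a ≠ 1 ∧ t * a * t⁻¹ = a :=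
    ⟨a₀ * (t * a₀ * t⁻¹), h.mul ha₀ (sp_conj ha₀ t), fun e => ha₀' (eq_inv_of_mul_eq_one_right e),
      fx a₀ ha₀⟩
  obtain ⟨b, hb, hb1, htb⟩ : ∃ b : G, b ^ p = 1 ∧ b ≠ 1 ∧ t * b * t⁻¹ = b⁻¹ :=
    ⟨b₀ * (t * b₀ * t⁻¹)⁻¹, h.mul hb₀ (sp_inv (sp_conj hb₀ t)),
      fun e => hb₀' (mul_inv_eq_one.1 e).symm, by
        rw [← conj_mul, ← conj_inv, t2 b₀ hb₀, mul_inv_rev, inv_inv]⟩
  let K : Subgroup G := centralizer {t} ⊓ centralizer {v | v ^ p = 1}
  have hK : ∀ v : G, v ^ p = 1 → t * v * t⁻¹ = v → v ∈ K := fun v hv e =>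
    ⟨mem_centralizer_singleton_iff.2 (mul_inv_eq_iff_eq_mul.1 e).symm, fun w hw => h.comm w v hw hv⟩
  have hK1 : ∀ k ∈ K, t * k * t⁻¹ = k := fun k hk => by
    rw [← mem_centralizer_singleton_iff.1 hk.1, mul_inv_cancel_right]
  have hK2 : ∀ v : G, v ^ p = 1 → ∀ k ∈ K, k * v = v * k := fun v hv k hk => (hk.2 v hv).symm
  have hbK : b ∉ K := fun e => hb1 (h.sq hb (by
    have := hK1 b e
    rw [htb] at this
    nth_rw 1 [← this]; exact inv_mul_cancel b))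
  obtain ⟨φ, hφ, hφb⟩ := hG.fixK h.prime hb (h.mul hb ha) (hK2 b hb) (hK2 _ (h.mul hb ha)) hbK
    fun e => hbK ((K.mul_mem_cancel_right (hK a ha hta)).1 e)
  have e1 : φ t * φ t = t * t := by
    rw [← map_mul]
    exact hφ _ ⟨mem_centralizer_singleton_iff.2 (mul_assoc _ _ _), fun w hw => (ht w hw).symm⟩
  have e2 : ∀ k ∈ K, φ t * k * (φ t)⁻¹ = k := fun k hk => by
    nth_rw 1 [← hφ k hk]
    rw [← map_inv, ← map_mul, ← map_mul, hK1 k hk, hφ k hk]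
  have e3 : φ t * (b * a) * (φ t)⁻¹ = (b * a)⁻¹ := by
    rw [← hφb, ← map_inv, ← map_mul, ← map_mul, htb, map_inv]
  obtain ⟨k, j, hk, hx⟩ := exists_ppart p (φ t * t⁻¹)
  have f1 : t * (φ t * t⁻¹) ^ k * t⁻¹ = ((φ t * t⁻¹) ^ k)⁻¹ := by
    rw [← conj_pow, ← inv_pow]
    congr 1
    calc t * (φ t * t⁻¹) * t⁻¹ = t * φ t * (t * t)⁻¹ := by group
      _ = _ := by rw [← e1]; group
  have f2 : ∀ c ∈ K, (φ t * t⁻¹) ^ k * c * ((φ t * t⁻¹) ^ k)⁻¹ = c := fun c hc => by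
    refine mul_inv_eq_iff_eq_mul.2 (Commute.pow_left (mul_inv_eq_iff_eq_mul.1 ?_) k).eq
    calc φ t * t⁻¹ * c * (φ t * t⁻¹)⁻¹ = φ t * (t⁻¹ * (t * c * t⁻¹) * t) * (φ t)⁻¹ := by
          rw [hK1 c hc]; group
      _ = c := by rw [show t⁻¹ * (t * c * t⁻¹) * t = c by group, e2 c hc]
  have haK := hK a ha hta
  have f3 : (φ t * t⁻¹) ^ k * b * ((φ t * t⁻¹) ^ k)⁻¹ = b * (a * a) ^ k := by
    refine sp_iter ?_ ?_ k
    · calc φ t * t⁻¹ * (a * a) * (φ t * t⁻¹)⁻¹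
          = φ t * (t⁻¹ * (t * (a * a) * t⁻¹) * t) * (φ t)⁻¹ := by
            rw [hK1 _ (K.mul_mem haK haK)]; group
        _ = a * a := by
          rw [show t⁻¹ * (t * (a * a) * t⁻¹) * t = a * a by group, e2 _ (K.mul_mem haK haK)]
    · calc φ t * t⁻¹ * b * (φ t * t⁻¹)⁻¹ = φ t * (t⁻¹ * (t * b * t⁻¹)⁻¹ * t) * (φ t)⁻¹ := by
            rw [htb]; group
        _ = φ t * a * (φ t)⁻¹ * (φ t * (b * a) * (φ t)⁻¹)⁻¹ := by group
        _ = b * (a * a) := by rw [e2 a haK, e3, inv_inv, ← mul_assoc, (h.comm a b ha hb).eq, mul_assoc]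
  have hc : ((a * a) ^ k) ^ p = 1 := sp_pow (h.mul ha ha) k
  have hc1 : (a * a) ^ k ≠ 1 := fun e => ha1 (h.sq ha (sp_eq_one h.prime (h.mul ha ha) hk e))
  have hcK : (a * a) ^ k ∈ K := pow_mem (K.mul_mem haK haK) k
  generalize (a * a) ^ k = c at f3 hc hc1 hcK
  generalize (φ t * t⁻¹) ^ k = x at hx f1 f2 f3
  have hx1 : x ≠ 1 := fun e => hc1 (by simpa [e] using f3)
  have hi : ∀ y ∈ zpowers x, t * y * t⁻¹ = y⁻¹ := by
    rintro _ ⟨n, rfl⟩
    rw [← conj_zpow, f1, inv_zpow]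
  obtain ⟨y, hyx, hy, hy1⟩ : ∃ y ∈ zpowers x, y ^ p = 1 ∧ y ≠ 1 := by
    obtain ⟨i, -, hi⟩ := (Nat.dvd_prime_pow h.prime).1 (orderOf_dvd_of_pow_eq_one hx)
    obtain _ | i := i
    · exact absurd (orderOf_eq_one_iff.1 hi) hx1
    refine ⟨x ^ p ^ i, pow_mem (mem_zpowers x) _, by rw [← pow_mul, ← pow_succ, ← hi, pow_orderOf_eq_one],
      fun e => ?_⟩
    have := orderOf_dvd_of_pow_eq_one e
    rw [hi, Nat.pow_dvd_pow_iff_le_right h.prime.one_lt] at this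
    omega
  have hcx : c ∉ zpowers x := fun e => hc1 (h.sq hc (by
    have := hi c e
    rw [hK1 c hcK] at this
    nth_rw 2 [this]; exact mul_inv_cancel c))
  have hxc : x * c = c * x := mul_inv_eq_iff_eq_mul.1 (f2 c hcK)
  have hxy : x * y = y * x := by
    obtain ⟨n, rfl⟩ := hyx
    exact (Commute.self_zpow x n).eq
  obtain ⟨ψ, hψ1, hψ2⟩ := hG.two h.prime hc (h.mul hc hy) hxc
    (by rw [← mul_assoc, hxc, mul_assoc, hxy, mul_assoc]) hcx
    fun e => hcx (((zpowers x).mul_mem_cancel_right hyx).1 e)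
  have hb' : ψ b ^ p = 1 := by rw [← map_pow, hb, map_one]
  have g1 : x * ψ b * x⁻¹ = ψ b * (c * y) := by
    rw [← hψ2, ← map_mul, ← f3, map_mul, map_mul, map_inv, hψ1]
  have hu : (b⁻¹ * ψ b) ^ p = 1 := h.mul (sp_inv hb) hb'
  have g2 : x * (b⁻¹ * ψ b) * x⁻¹ = b⁻¹ * ψ b * y := by
    rw [← conj_mul, ← conj_inv, f3, g1, mul_inv_rev, mul_assoc, ← mul_assoc b⁻¹, ← mul_assoc (b⁻¹ * ψ b),
      (h.comm _ _ hu hc).eq]
    group
  generalize b⁻¹ * ψ b = u at hu g2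
  have g3 : x * (t * u * t⁻¹) * x⁻¹ = t * u * t⁻¹ * y := by
    have e4 : x⁻¹ * u * x = u * y⁻¹ := by
      calc x⁻¹ * u * x = x⁻¹ * (u * y) * (y⁻¹ * x) := by group
        _ = u * (x⁻¹ * (y⁻¹ * x)) := by rw [← g2]; group
        _ = _ := by rw [(Commute.inv_left (show Commute y x from hxy.symm)).eq]; group
    calc x * (t * u * t⁻¹) * x⁻¹ = (t * x * t⁻¹)⁻¹ * (t * u * t⁻¹) * (t * x * t⁻¹) := by
          rw [f1, inv_inv]
      _ = t * (x⁻¹ * u * x) * t⁻¹ := by group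
      _ = t * u * t⁻¹ * (t * y * t⁻¹)⁻¹ := by rw [e4]; group
      _ = _ := by rw [hi y hyx, inv_inv]
  have g4 := f2 _ (hK _ (h.mul hu (sp_conj hu t)) (fx u hu))
  rw [← conj_mul, g2, g3, mul_assoc, ← mul_assoc y, (h.comm _ _ hy (sp_conj hu t)).eq, mul_assoc,
    ← mul_assoc u, mul_eq_left] at g4
  exact hy1 (h.sq hy g4)

/-- if some 2-element inverts the elements of order `p`, no element acts on them as a `p`-element -/
theorem pow_cent [Finite G] {t : G} {i : ℕ} (ht2 : t ^ 2 ^ i = 1)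
    (ht : ∀ v : G, v ^ p = 1 → t * v * t⁻¹ = v⁻¹) (x : G) :
    ∃ k, ¬ p ∣ k ∧ ∀ v : G, v ^ p = 1 → x ^ k * v * (x ^ k)⁻¹ = v := by
  let N : Subgroup G :=
    { carrier := {g | ∃ ε : ℤˣ, ∀ v : G, v ^ p = 1 → g * v * g⁻¹ = v ^ (ε : ℤ)}
      one_mem' := ⟨1, by simp⟩
      mul_mem' := by
        rintro a b ⟨ε, ha⟩ ⟨δ, hb⟩
        refine ⟨ε * δ, fun v hv => ?_⟩
        rw [Units.val_mul, zpow_mul, ← ha v hv, conj_zpow, ← hb v hv]; group
      inv_mem' := by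
        rintro a ⟨ε, ha⟩
        refine ⟨ε, fun v hv => ?_⟩
        have := ha _ (sp_zpow hv ε)
        rw [← zpow_mul, ← Units.val_mul, Int.units_mul_self, Units.val_one, zpow_one] at this
        nth_rw 1 [← this]; group }
  have hN : N.Normal := ⟨by
    rintro a ⟨ε, ha⟩ g
    refine ⟨ε, fun v hv => ?_⟩
    calc g * a * g⁻¹ * v * (g * a * g⁻¹)⁻¹ = g * (a * (g⁻¹ * v * g) * a⁻¹) * g⁻¹ := by group
      _ = _ := by rw [ha _ (sp_conj' hv g), ← conj_zpow]; group⟩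
  obtain ⟨T, hT, htT⟩ := exists_isSylowIn_ge (H := N) (isPGroup_zpowers_of_pow ht2)
    (zpowers_le.2 ⟨-1, fun v hv => by simp [ht v hv]⟩)
  replace htT := zpowers_le.1 htT
  obtain ⟨n, hn, hm⟩ := hT.frattini' (g := x) (le_normalizer_of_normal (mem_top x))
  have hd : ¬ p ∣ orderOf (x * n) := fun hd => by
    have ho := orderOf_pow_orderOf_div (orderOf_pos (x * n)).ne' hd
    have hy := pow_mem hm (orderOf (x * n) / p)
    generalize (x * n) ^ (orderOf (x * n) / p) = y at ho hy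
    have hyp : y ^ p = 1 := ho ▸ pow_orderOf_eq_one y
    have h1 : y * y ∈ T := by
      have := T.mul_mem (conj_mem_of_mem_normalizer hy htT) (T.inv_mem htT)
      rwa [show y * t * y⁻¹ * t⁻¹ = y * (t * y * t⁻¹)⁻¹ by group, ht y hyp, inv_inv] at this
    obtain ⟨j, hj⟩ := isPGroup_iff_mem.1 hT.pgroup _ h1
    have := h.sq hyp (sp_eq_one h.prime (h.mul hyp hyp)
      (fun e => h.not_dvd_two (h.prime.dvd_of_dvd_pow e)) hj)
    rw [this, orderOf_one] at ho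
    exact h.prime.one_lt.ne ho
  have hx : x ^ orderOf (x * n) ∈ N := by
    rw [← QuotientGroup.eq_one_iff, QuotientGroup.mk_pow, show (x : G ⧸ N) = (x * n : G) by
      rw [QuotientGroup.mk_mul, (QuotientGroup.eq_one_iff n).2 hn, mul_one], ← QuotientGroup.mk_pow,
      pow_orderOf_eq_one, QuotientGroup.mk_one]
  obtain ⟨ε, hε⟩ := hx
  refine ⟨orderOf (x * n) * 2, fun e => (h.prime.dvd_mul.1 e).elim hd h.not_dvd_two, fun v hv => ?_⟩
  calc x ^ (orderOf (x * n) * 2) * v * (x ^ (orderOf (x * n) * 2))⁻¹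
      = x ^ orderOf (x * n) * (x ^ orderOf (x * n) * v * (x ^ orderOf (x * n))⁻¹) *
        (x ^ orderOf (x * n))⁻¹ := by rw [pow_mul, pow_two]; group
    _ = v := by
      rw [hε v hv, hε _ (sp_zpow hv ε), ← zpow_mul, ← Units.val_mul, Int.units_mul_self, Units.val_one,
        zpow_one]

section
variable (hx : ∀ x : G, ∃ k, ¬ p ∣ k ∧ ∀ v : G, v ^ p = 1 → x ^ k * v * (x ^ k)⁻¹ = v)
include hx

theorem tr {x a b : G} (ha : a ^ p = 1) (hb : b ^ p = 1) (h1 : x * a * x⁻¹ = a)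
    (h2 : x * b * x⁻¹ = b * a) : a = 1 := by
  obtain ⟨k, hk, e⟩ := hx x
  have := sp_iter h1 h2 k
  rw [e b hb, left_eq_mul] at this
  exact sp_eq_one h.prime ha hk this

theorem quad (hG : Hg G) (g : G) {a : G} (ha : a ^ p = 1) :
    ∃ i j : ℤ, g * (g * a * g⁻¹) * g⁻¹ = a ^ i * (g * a * g⁻¹) ^ j := by
  have hb := sp_conj ha g
  have hc := sp_conj hb g
  have hab := h.comm _ _ ha hb
  let K : Subgroup G :=
    { carrier := {x | ∃ i j : ℤ, x = a ^ i * (g * a * g⁻¹) ^ j}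
      one_mem' := ⟨0, 0, by simp⟩
      mul_mem' := by
        rintro _ _ ⟨i, j, rfl⟩ ⟨k, l, rfl⟩
        exact ⟨i + k, j + l, by
          rw [(hab.symm.zpow_zpow j k).mul_mul_mul_comm, ← zpow_add, ← zpow_add]⟩
      inv_mem' := by
        rintro _ ⟨i, j, rfl⟩
        exact ⟨-i, -j, by rw [mul_inv_rev, (hab.zpow_zpow (-i) (-j)).eq, zpow_neg, zpow_neg]⟩ }
  have hK : ∀ v : G, v ^ p = 1 → ∀ k ∈ K, k * v = v * k := by
    rintro v hv _ ⟨i, j, rfl⟩
    exact h.comm _ _ (h.mul (sp_zpow ha i) (sp_zpow hb j)) hv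
  have haK : a ∈ K := ⟨1, 0, by simp⟩
  have hbK : g * a * g⁻¹ ∈ K := ⟨0, 1, by simp⟩
  by_contra hn
  obtain ⟨φ, h1, h2⟩ := hG.fixK h.prime hc (h.mul hc hb) (hK _ hc) (hK _ (h.mul hc hb)) hn
    fun e => hn ((K.mul_mem_cancel_right hbK).1 e)
  have e1 : φ g * a * (φ g)⁻¹ = g * a * g⁻¹ := by
    nth_rw 1 [← h1 a haK]
    rw [← map_inv, ← map_mul, ← map_mul, h1 _ hbK]
  have e2 : φ g * (g * a * g⁻¹) * (φ g)⁻¹ = g * (g * a * g⁻¹) * g⁻¹ * (g * a * g⁻¹) := by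
    nth_rw 1 [← h1 _ hbK]
    rw [← map_inv, ← map_mul, ← map_mul, h2]
  have := h.tr hx (x := g⁻¹ * φ g) ha hb
    (by rw [show g⁻¹ * φ g * a * (g⁻¹ * φ g)⁻¹ = g⁻¹ * (φ g * a * (φ g)⁻¹) * g by group, e1]; group)
    (by rw [show g⁻¹ * φ g * (g * a * g⁻¹) * (g⁻¹ * φ g)⁻¹ =
      g⁻¹ * (φ g * (g * a * g⁻¹) * (φ g)⁻¹) * g by group, e2]; group)
  exact hn ⟨0, 0, by simp [this]⟩

theorem scalar (hG : Hg G) (h3 : p ≠ 3) (g : G) {a : G} (ha : a ^ p = 1) :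
    g * a * g⁻¹ ∈ zpowers a := by
  by_contra hn
  obtain ⟨i, j, e⟩ := h.quad hx hG g ha
  have hb := sp_conj ha g
  generalize hgb : g * a * g⁻¹ = b at hn e hb
  have hab := h.comm _ _ ha hb
  obtain ⟨φ, h1, h2⟩ := hG.two h.prime hb (h.mul hb hb) hab (hab.mul_right hab) hn fun e => hn (by
    obtain ⟨m, hm⟩ := h.prime.odd_of_ne_two h.odd
    have : b = (b * b) ^ (m + 1) := by
      rw [← pow_two, ← pow_mul, show 2 * (m + 1) = p + 1 by omega, pow_succ, hb, one_mul]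
    rw [this]; exact pow_mem e _)
  have haa := h.mul ha ha
  obtain ⟨ψ, h3', h4⟩ := hG.two h.prime hb (h.mul hb haa) hab (h.comm _ _ ha (h.mul hb haa)) hn
    fun e => hn (((zpowers a).mul_mem_cancel_right (mul_mem (mem_zpowers a) (mem_zpowers a))).1 e)
  have e1 : g⁻¹ * φ g * a * (g⁻¹ * φ g)⁻¹ = a * a := by
    have : φ g * a * (φ g)⁻¹ = b * b := by rw [← h2, ← hgb, map_mul, map_mul, map_inv, h1]
    rw [show g⁻¹ * φ g * a * (g⁻¹ * φ g)⁻¹ = g⁻¹ * (φ g * a * (φ g)⁻¹) * g by group, this, ← hgb]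
    group
  have e2 : g⁻¹ * φ g * (b * b) * (g⁻¹ * φ g)⁻¹ = b * a ^ j := by
    have : φ g * (b * b) * (φ g)⁻¹ = g * b * g⁻¹ * b ^ j := by
      rw [← h2, ← map_inv, ← map_mul, ← map_mul, e, map_mul, map_zpow, map_zpow, h1, h2,
        (Commute.refl b).mul_zpow, mul_assoc]
    rw [show g⁻¹ * φ g * (b * b) * (g⁻¹ * φ g)⁻¹ = g⁻¹ * (φ g * (b * b) * (φ g)⁻¹) * g by group, this]
    nth_rw 2 [← hgb]
    rw [conj_zpow]; group
  generalize g⁻¹ * φ g = n at e1 e2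
  have e3 : ψ n * a * (ψ n)⁻¹ = a * a := by
    nth_rw 1 [← h3']
    rw [← map_inv, ← map_mul, ← map_mul, e1, map_mul, h3']
  have e4 : ψ n * (b * (a * a) * (b * (a * a))) * (ψ n)⁻¹ = b * (a * a) * a ^ j := by
    nth_rw 1 2 [← h4]
    rw [← map_inv, ← map_mul, ← map_mul, ← map_mul, e2, map_mul, map_zpow, h3', h4]
  have e5 : ψ n * (b * b) * (ψ n)⁻¹ = b * a ^ j * ((a * a) ^ 3)⁻¹ := by
    have : b * b = b * (a * a) * (b * (a * a)) * (a ^ 4)⁻¹ := by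
      rw [((h.comm _ _ haa hb)).mul_mul_mul_comm]; group
    rw [this, ← conj_mul, e4, ← conj_inv, ← conj_pow, e3, ← pow_two a, ← pow_mul, ← pow_mul]; group
  have := h.tr hx (x := n⁻¹ * ψ n) (sp_inv (sp_pow ha 3)) (h.mul hb hb)
    (by
      rw [← conj_inv, ← conj_pow, show n⁻¹ * ψ n * a * (n⁻¹ * ψ n)⁻¹ = n⁻¹ * (ψ n * a * (ψ n)⁻¹) * n by group,
        e3, ← e1]
      group)
    (by
      rw [show n⁻¹ * ψ n * (b * b) * (n⁻¹ * ψ n)⁻¹ = n⁻¹ * (ψ n * (b * b) * (ψ n)⁻¹) * n by group, e5, ← e2,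
        ← e1, conj_pow]
      group)
  have a1 := sp_eq_one h.prime ha
    (fun e => h3 ((Nat.prime_dvd_prime_iff_eq h.prime Nat.prime_three).1 e)) (inv_eq_one.1 this)
  exact hn (by rw [← hgb, a1]; simp)

theorem three (hG : Hg G) (h3 : p = 3) (g : G) {b : G} (hb : b ^ p = 1) :
    g ^ 8 * b * (g ^ 8)⁻¹ = b := by
  have key : ∀ b : G, b ^ p = 1 → g ^ 24 * b * (g ^ 24)⁻¹ = b := fun b hb => by
    have ha := sp_conj' hb g
    obtain ⟨i, j, e⟩ := h.quad hx hG g ha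
    have hgb : g * (g⁻¹ * b * g) * g⁻¹ = b := by group
    generalize g⁻¹ * b * g = a at ha e hgb
    rw [hgb] at e
    subst h3
    have hab := h.comm _ _ ha hb
    have red : ∀ c : G, c ^ 3 = 1 → ∀ n : ℤ, c ^ n = c ^ (n % 3) := fun c hc n => by
      nth_rw 1 [← Int.emod_add_mul_ediv n 3]
      rw [zpow_add, zpow_mul, show c ^ (3 : ℤ) = 1 from hc ▸ zpow_natCast c 3, one_zpow, mul_one]
    let T : ℤ × ℤ → ℤ × ℤ := fun u => (i % 3 * u.2, u.1 + j % 3 * u.2)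
    have it : ∀ n : ℕ, g ^ n * b * (g ^ n)⁻¹ = a ^ (T^[n] (0, 1)).1 * b ^ (T^[n] (0, 1)).2 := fun n => by
      induction n with
      | zero => simp
      | succ n ih =>
        calc g ^ (n + 1) * b * (g ^ (n + 1))⁻¹ = g * (g ^ n * b * (g ^ n)⁻¹) * g⁻¹ := by group
          _ = _ := by
            rw [ih, ← conj_mul, ← conj_zpow, ← conj_zpow, hgb, e, red a ha i, red b hb j,
              (hab.zpow_zpow _ _).mul_zpow, ← zpow_mul, ← zpow_mul, ← mul_assoc,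
              (hab.symm.zpow_zpow _ _).eq, mul_assoc, ← zpow_add, Function.iterate_succ_apply']
    by_cases h0 : i % 3 = 0 ∧ j % 3 = 0
    · rw [red a ha i, red b hb j, h0.1, h0.2] at e
      have : b = 1 := by simpa using e
      simp [this]
    have : (T^[24] (0, 1)).1 % 3 = 0 ∧ (T^[24] (0, 1)).2 % 3 = 1 := by
      have h1 : i % 3 = 0 ∨ i % 3 = 1 ∨ i % 3 = 2 := by omega
      have h2 : j % 3 = 0 ∨ j % 3 = 1 ∨ j % 3 = 2 := by omega
      rcases h1 with h1 | h1 | h1 <;> rcases h2 with h2 | h2 | h2 <;>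
        first
          | (simp only [T, h1, h2]; decide)
          | omega
    rw [it, red a ha, red b hb, this.1, this.2, zpow_zero, zpow_one, one_mul]
  obtain ⟨k, hk, e⟩ := hx (g ^ 8)
  have h1 : (g ^ 8) ^ p ∈ centralizer {b} := by
    rw [← pow_mul, h3, mem_centralizer_singleton_iff]
    exact mul_inv_eq_iff_eq_mul.1 (key b hb)
  have h2 : (g ^ 8) ^ k ∈ centralizer {b} :=
    mem_centralizer_singleton_iff.2 (mul_inv_eq_iff_eq_mul.1 (e b hb))
  obtain ⟨u, v, huv⟩ := Nat.isCoprime_iff_coprime.2 (h.prime.coprime_iff_not_dvd.2 hk)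
  have := mul_mem (zpow_mem h1 u) (zpow_mem h2 v)
  rw [← zpow_natCast _ p, ← zpow_natCast _ k, ← zpow_mul, ← zpow_mul, ← zpow_add, mul_comm _ u,
    mul_comm _ v, huv, zpow_one, mem_centralizer_singleton_iff] at this
  exact mul_inv_eq_iff_eq_mul.2 this

end

theorem eq_one [Finite G] (hG : Hg G) (hp : Group.IsPerfect G) {a : G} (ha : a ^ p = 1) : a = 1 := by
  let C : Subgroup G := centralizer {v | v ^ p = 1}
  have hC : ∀ g : G, g ∈ C ↔ ∀ v : G, v ^ p = 1 → g * v * g⁻¹ = v := fun g =>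
    ⟨fun hg v hv => mul_inv_eq_iff_eq_mul.2 (hg v hv).symm,
      fun hg v hv => (mul_inv_eq_iff_eq_mul.1 (hg v hv)).symm⟩
  have hN : C.Normal := ⟨fun n hn g => (hC _).2 fun v hv => by
    calc g * n * g⁻¹ * v * (g * n * g⁻¹)⁻¹ = g * (n * (g⁻¹ * v * g) * n⁻¹) * g⁻¹ := by group
      _ = v := by rw [(hC n).1 hn _ (sp_conj' hv g)]; group⟩
  have htop : Subsingleton (G ⧸ C) := by
    by_contra hn
    have : Nontrivial (G ⧸ C) := not_subsingleton_iff_nontrivial.1 hn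
    have hns := Group.IsPerfect.not_isSolvable (G ⧸ C)
    obtain ⟨q, hq⟩ := exists_prime_orderOf_dvd_card' (G := G ⧸ C) 2
      (Nat.not_odd_iff_even.1 fun e => hns (FT.odd_order_solvable e)).two_dvd
    obtain ⟨g, rfl⟩ := QuotientGroup.mk_surjective q
    obtain ⟨k, i, hk, e⟩ := exists_ppart 2 g
    have h2 : g ^ k * g ^ k ∈ C := by
      rw [← QuotientGroup.eq_one_iff, ← pow_two, ← pow_mul, mul_comm, pow_mul, QuotientGroup.mk_pow,
        QuotientGroup.mk_pow, ← hq, pow_orderOf_eq_one, one_pow]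
    have h1 : g ^ k ∉ C := by
      rw [← QuotientGroup.eq_one_iff, QuotientGroup.mk_pow, ← orderOf_dvd_iff_pow_eq_one, hq]
      exact hk
    have hx := h.pow_cent e ((h.cent_or_inv hG fun v hv => (h2 v hv).symm).resolve_left
      fun e => h1 ((hC _).2 e))
    by_cases h3 : p = 3
    · refine Group.IsPerfect.not_isNilpotent (G ⧸ C) (IsPGroup.isNilpotent (p := 2) fun q => ⟨3, ?_⟩)
      obtain ⟨g, rfl⟩ := QuotientGroup.mk_surjective q
      rw [← QuotientGroup.mk_pow, QuotientGroup.eq_one_iff, hC]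
      exact fun v hv => h.three hx hG h3 g hv
    · refine Group.IsPerfect.not_isMulCommutative (G ⧸ C) ⟨⟨fun x y => ?_⟩⟩
      obtain ⟨x, rfl⟩ := QuotientGroup.mk_surjective x
      obtain ⟨y, rfl⟩ := QuotientGroup.mk_surjective y
      rw [← QuotientGroup.mk_mul, ← QuotientGroup.mk_mul, QuotientGroup.eq, hC]
      intro v hv
      obtain ⟨m, hm⟩ := h.scalar hx hG h3 x hv
      obtain ⟨n, hn⟩ := h.scalar hx hG h3 y hv
      have : y * x * v * (y * x)⁻¹ = x * y * v * (x * y)⁻¹ := by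
        calc y * x * v * (y * x)⁻¹ = y * (x * v * x⁻¹) * y⁻¹ := by group
          _ = x * (y * v * y⁻¹) * x⁻¹ := by
            rw [← hm, ← hn, ← conj_zpow, ← conj_zpow, ← hm, ← hn, ← zpow_mul, ← zpow_mul, mul_comm]
          _ = _ := by group
      calc (x * y)⁻¹ * (y * x) * v * ((x * y)⁻¹ * (y * x))⁻¹
          = (x * y)⁻¹ * (y * x * v * (y * x)⁻¹) * (x * y) := by group
        _ = v := by rw [this]; group
  have hz : a ∈ center G := mem_center_iff.2 fun g =>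
    (((QuotientGroup.eq_one_iff g).1 (Subsingleton.elim _ _) : g ∈ C) a ha).symm
  by_contra h1
  exact h1 (h.sq ha ((center_el hG hp fun e => h1 (by simpa [e] using hz)).1 a hz))

end SpA

/-- a characteristic subgroup contains all elements whose order divides the order of one of its elements -/
theorem Hg.mem_char [Finite G] (hG : Hg G) {N : Subgroup G} [hN : N.Characteristic] {z x : G}
    (hz : z ∈ N) (hx : orderOf x ∣ orderOf z) : x ∈ N := by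
  obtain ⟨φ, hφ⟩ := hG.ord (orderOf_pow_orderOf_div (orderOf_pos z).ne' hx)
  rw [← hφ]
  exact (characteristic_iff_le_comap.1 hN φ) (pow_mem hz _)

theorem sp_oddCore [Finite G] (hG : Hg G) (hp : Group.IsPerfect G) : Cfsg.pPrimeCore 2 G = ⊥ := by
  by_contra hO
  have := Core.pPrimeCore_characteristic 2 G
  have ho := Core.odd_card_oddCore G
  obtain ⟨A, hA, hAO, hA1, hc⟩ : ∃ A : Subgroup G, A.Characteristic ∧ A ≤ Cfsg.pPrimeCore 2 G ∧ A ≠ ⊥ ∧
      ∀ x ∈ A, ∀ y ∈ A, Commute x y := by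
    obtain ⟨A, ⟨h1, h2, h3⟩, hmin⟩ := Set.Finite.exists_minimal (Set.toFinite
      {A : Subgroup G | A.Characteristic ∧ A ≤ Cfsg.pPrimeCore 2 G ∧ A ≠ ⊥}) ⟨_, this, le_rfl, hO⟩
    refine ⟨A, h1, h2, h3, fun x hx y hy => ?_⟩
    have hs : Group.IsSolvable A := FT.odd_subgroup_solvable (ho.of_dvd_nat (card_dvd_of_le h2))
    have hb : ⁅A, A⁆ = ⊥ := by
      by_contra hb
      have e := le_antisymm (commutator_le_left A A)
        (hmin (y := ⁅A, A⁆) ⟨inferInstance, (commutator_le_left A A).trans h2, hb⟩ (commutator_le_left A A))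
      have : Group.IsPerfect A := isPerfect_iff.2 e
      have : Nontrivial A := (nontrivial_iff_ne_bot A).2 h3
      exact Group.IsPerfect.not_isSolvable A hs
    exact commutatorElement_eq_one_iff_commute.1 (mem_bot.1 (hb ▸ commutator_mem_commutator hx hy))
  have hp' := Nat.minFac_prime (mt card_eq_one.1 hA1)
  have : Fact (Nat.card A).minFac.Prime := ⟨hp'⟩
  obtain ⟨a, ha⟩ := exists_prime_orderOf_dvd_card' (G := A) _ (Nat.minFac_dvd _)
  rw [← orderOf_coe] at ha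
  have h : SpA (Nat.card A).minFac G := ⟨hp', fun e => (Nat.not_even_iff_odd.2
      (ho.of_dvd_nat (card_dvd_of_le hAO))) (even_iff_two_dvd.2 (e ▸ Nat.minFac_dvd _)),
    fun x y hx hy => hc x (hG.mem_char a.2 (ha ▸ orderOf_dvd_of_pow_eq_one hx)) y
      (hG.mem_char a.2 (ha ▸ orderOf_dvd_of_pow_eq_one hy))⟩
  rw [h.eq_one hG hp (a := a) (ha ▸ pow_orderOf_eq_one (a : G)), orderOf_one] at ha
  exact hp'.one_lt.ne ha

end CfsgLib.Hom
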